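import Cfsg.Agent.H885.Pw.JG

/-!
helper885 (S2465, `F4(3)`): elements of order `2^a 3^b` having `t1` as a power: they commute with a long root element
or have a small centralizer.
-/

set_option autoImplicit false
set_option linter.unusedSectionVars false

namespace Cfsg.Agent.H885.Pw.JB

open Cfsg Cfsg.Lie Module Matrix
open Cfsg.Agent.LieClassical Cfsg.Agent.LieClassical.OrthForms Cfsg.Agent.LieClassical.OrthCore
  Cfsg.Agent.LieClassical.OrthTrans Cfsg.Agent.LieClassical.OrthFinite Cfsg.Agent.LieClassical.OrthSimple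
open Cfsg.Agent.H952.F4
open Cfsg.Agent.H885.BS.Orth Cfsg.Agent.H510.OA

universe u

/-- the bound for the centralizers in `O₉(3)` -/
def Bnd (K : Type u) [Field K] : Prop :=
  ∀ s ∈ O (oddForm 4 K), (∃ k : ℕ, s ^ 2 ^ k = 1) →
    finrank K (LinearMap.ker ((s : VV K →ₗ[K] VV K) - LinearMap.id)) ≤ 4 →
    finrank K (LinearMap.ker ((s : VV K →ₗ[K] VV K) + LinearMap.id)) ≤ 4 →
    Nat.card ↥(O (oddForm 4 K) ⊓ Subgroup.centralizer {s}) ≤ 2488492546

/-- splitting an element of order dividing `A B` -/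
theorem split {G : Type*} [Group G] (g : G) {A B : ℕ} (hAB : A.Coprime B) (hg : g ^ (A * B) = 1) :
    ∃ m n : ℕ, g = g ^ m * g ^ n ∧ (g ^ m) ^ A = 1 ∧ (g ^ n) ^ B = 1 := by
  obtain ⟨m, hm1, hm2⟩ := Nat.chineseRemainder hAB 1 0
  obtain ⟨n, hn1, hn2⟩ := Nat.chineseRemainder hAB 0 1
  have hdm : B ∣ m := (Nat.modEq_zero_iff_dvd).1 hm2
  have hdn : A ∣ n := (Nat.modEq_zero_iff_dvd).1 hn1
  have h1 : m + n ≡ 1 [MOD A * B] := by
    rw [← Nat.modEq_and_modEq_iff_modEq_mul hAB]
    exact ⟨hm1.add hn1, hm2.add hn2⟩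
  refine ⟨m, n, ?_, ?_, ?_⟩
  · rw [← pow_add]
    have h2 : m + n ≡ 1 [MOD orderOf g] := h1.of_dvd (orderOf_dvd_of_pow_eq_one hg)
    rw [pow_eq_pow_iff_modEq.2 h2, pow_one]
  · obtain ⟨c, rfl⟩ := hdm
    rw [← pow_mul, show B * c * A = A * B * c by ring, pow_mul, hg, one_pow]
  · obtain ⟨c, rfl⟩ := hdn
    rw [← pow_mul, show A * c * B = A * B * c by ring, pow_mul, hg, one_pow]

variable {K : Type u} [Field K]

/-- **the case of `t1`** -/
theorem t1_case [Finite K] (hK : Nat.card K = 3) (hB : Bnd K) {g : ↥(chevF4.group K)} (ht : t1 K ∈ Subgroup.zpowers g)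
    {a b : ℕ} (ho : g ^ (2 ^ a * 3 ^ b) = 1) :
    (∃ x, Commute g (x * z47 K * x⁻¹)) ∨ Nat.card (Subgroup.centralizer ({g} : Set ↥(chevF4.group K))) ≤ 4976985092 := by
  classical
  obtain ⟨ρ, hρ, hi⟩ := exists_J K
  have : Fintype K := Fintype.ofFinite K
  have : Fact (Nat.Prime 3) := ⟨Nat.prime_three⟩
  have hch : CharP K 3 := charP_of_card_eq_prime (by rw [← Nat.card_eq_fintype_card, hK])
  have h2 := two_ne hK
  have hgt : g ∈ Subgroup.centralizer ({t1 K} : Set ↥(chevF4.group K)) := by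
    rw [Subgroup.mem_centralizer_singleton_iff]
    obtain ⟨k, hk⟩ := ht
    rw [← hk]
    exact ((Commute.refl g).zpow_right k).eq
  set P := Ph hρ h2 (isT_t1 hρ) with hP
  set g' : ↥(Subgroup.centralizer ({t1 K} : Set ↥(chevF4.group K))) := ⟨g, hgt⟩ with hg'
  have hPO : P g' ∈ O (oddForm 4 K) := Ph_mem_O hρ h2 (isT_t1 hρ) g'
  have hPg : (P g') ^ (2 ^ a * 3 ^ b) = 1 := by
    rw [← map_pow]
    have : g' ^ (2 ^ a * 3 ^ b) = 1 := Subtype.ext ho
    rw [this, map_one]
  obtain ⟨m, n, e1, e2, e3⟩ := split (P g') (Nat.Coprime.pow a b (by norm_num : Nat.Coprime 2 3)) hPg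
  set s := (P g') ^ m with hs
  set w := (P g') ^ n with hw
  have hsw : ∀ y, s (w y) = w (s y) := by
    intro y
    rw [← LinearEquiv.mul_apply, ← LinearEquiv.mul_apply, hs, hw, ← pow_add, ← pow_add, add_comm]
  have hgs : ∀ y, P g' y = s (w y) := by
    intro y
    rw [← LinearEquiv.mul_apply, ← e1]
  have hsO : s ∈ O (oddForm 4 K) := pow_mem hPO m
  have hwO : w ∈ O (oddForm 4 K) := pow_mem hPO n
  -- lines
  have line : ∀ ε : K, ε * ε = 1 → ∀ U : Submodule K (VV K), (∀ y, y ∈ U ↔ s y = ε • y) → 5 ≤ finrank K U →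
      ∃ x, Commute g (x * z47 K * x⁻¹) := by
    intro ε hε U hU hd
    obtain ⟨v, hv, v', hv', hT, hL, h3, c, h4⟩ := exists_line (p := 3) hwO e3 (U := U) (by
      intro y hy
      rw [hU] at hy ⊢
      rw [hsw, hy, map_smul]) hd
    rw [hU] at hv hv'
    refine commute_long hK hρ hi hT hL (g := g') (a := ε) (b := 0) (c := ε * c) (d := ε) ?_ ?_ ?_
    · rw [← hP, hgs, h3, hv, zero_smul, add_zero]
    · rw [← hP, hgs, h4, map_add, map_smul, hv, hv', smul_smul, mul_comm c, add_comm]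
    · rw [zero_mul, sub_zero, hε]
  by_cases h5 : 5 ≤ finrank K (LinearMap.ker ((s : VV K →ₗ[K] VV K) - LinearMap.id))
  · left
    refine line 1 (one_mul 1) _ (fun y => ?_) h5
    rw [LinearMap.mem_ker, LinearMap.sub_apply, sub_eq_zero, one_smul]
    rfl
  by_cases h6 : 5 ≤ finrank K (LinearMap.ker ((s : VV K →ₗ[K] VV K) + LinearMap.id))
  · left
    refine line (-1) (by ring) _ (fun y => ?_) h6
    rw [LinearMap.mem_ker, LinearMap.add_apply, add_eq_zero_iff_eq_neg, neg_one_smul]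
    rfl
  right
  have h7 := hB s hsO ⟨a, e2⟩ (Nat.lt_succ_iff.1 (not_le.1 h5)) (Nat.lt_succ_iff.1 (not_le.1 h6))
  -- the map to the orthogonal group
  have hle : Subgroup.centralizer ({g} : Set ↥(chevF4.group K)) ≤ Subgroup.centralizer ({t1 K} : Set ↥(chevF4.group K)) := by
    intro y hy
    rw [Subgroup.mem_centralizer_singleton_iff] at hy ⊢
    obtain ⟨k, hk⟩ := ht
    rw [← hk]
    exact (Commute.zpow_right (show Commute y g from hy) k).eq
  set φ := P.comp (Subgroup.inclusion hle) with hφ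
  have hker : Nat.card φ.ker ≤ 2 := by
    have h8 : ∀ x : φ.ker, (((x : ↥(Subgroup.centralizer ({g} : Set ↥(chevF4.group K))))) : ↥(chevF4.group K)) = 1 ∨
        (((x : ↥(Subgroup.centralizer ({g} : Set ↥(chevF4.group K))))) : ↥(chevF4.group K)) = t1 K := by
      intro x
      have h9 : P (Subgroup.inclusion hle (x : ↥(Subgroup.centralizer ({g} : Set ↥(chevF4.group K))))) = 1 := x.2
      exact ker_Ph hρ h2 (isT_t1 hρ) hi h9
    have h3 : Nat.card φ.ker ≤ Nat.card Bool := by
      refine Nat.card_le_card_of_injective (fun x : φ.ker =>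
        decide ((((x : ↥(Subgroup.centralizer ({g} : Set ↥(chevF4.group K))))) : ↥(chevF4.group K)) = 1)) ?_
      intro x y hxy
      apply Subtype.ext
      apply Subtype.ext
      simp only [decide_eq_decide] at hxy
      rcases h8 x with ha | ha
      · rw [ha, hxy.1 ha]
      · rcases h8 y with hb | hb
        · rw [hb, hxy.2 hb]
        · rw [ha, hb]
    simpa using h3
  have hrange : Nat.card φ.range ≤ 2488492546 := by
    have : Finite (VV K ≃ₗ[K] VV K) :=
      Finite.of_injective (fun g : VV K ≃ₗ[K] VV K => (g : VV K → VV K)) DFunLike.coe_injective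
    refine (Subgroup.card_le_of_le ?_).trans h7
    rintro _ ⟨y, rfl⟩
    refine ⟨Ph_mem_O hρ h2 (isT_t1 hρ) _, ?_⟩
    have h9 : Commute (φ y) (P g') := by
      have h10 : Commute (Subgroup.inclusion hle y) g' := by
        apply Subtype.ext
        exact Subgroup.mem_centralizer_singleton_iff.1 y.2
      exact h10.map P
    exact Subgroup.mem_centralizer_singleton_iff.2 (h9.pow_right m).eq
  have hcard : Nat.card φ.range * Nat.card φ.ker = Nat.card (Subgroup.centralizer ({g} : Set ↥(chevF4.group K))) := by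
    rw [← Subgroup.card_mul_index φ.ker, Subgroup.index_ker, mul_comm]
  rw [← hcard]
  calc Nat.card φ.range * Nat.card φ.ker ≤ 2488492546 * 2 := Nat.mul_le_mul hrange hker
    _ = 4976985092 := by norm_num

end Cfsg.Agent.H885.Pw.JB
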