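import Cfsg.Agent.H885.Pw.JH
import Cfsg.Agent.H885.Pw.JI
import Cfsg.Agent.H150.F43.DichB
import Cfsg.Agent.H150.F43.Dim

/-!
# `F₄(3)` (S2465): the dichotomy for elements of order `2^a 3^b`, `a ≥ 1` (helper885)

* `dich` : such an element commutes with a long root element, or its centralizer has at most `4976985092` elements.
-/

set_option autoImplicit false
set_option linter.unusedSectionVars false

namespace Cfsg.Agent.H885.Pw.DichF

open Cfsg.Lie Cfsg.Agent.ChevalleyStructure Cfsg.Agent.ChevalleyStructure.CoxeterGeomTypes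
  Cfsg.Agent.Nodes.RGDChev Cfsg.Agent.KFacts.RgdChevCoord Cfsg.Agent.OddHalf.NI.ModelChev
  Cfsg.Agent.H557.SubTab Cfsg.Agent.H557.SubLink Cfsg.Agent.H557.InvClass
  Cfsg.Agent.H557.ToralTypes Cfsg.Agent.H557.OrbF4 Cfsg.Agent.H557.InvF4
open Cfsg.Agent.Tits.Roots Cfsg.Agent.Nodes.BNOf
open Cfsg.Agent.LieClassical.OrthForms Cfsg.Agent.LieClassical.OrthCore
open Cfsg.Agent.H885.Pw.JB Cfsg.Agent.H150.F43

universe u

variable {K : Type u} [Field K]

theorem bnd (hK : Nat.card K = 3) : Bnd K := by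
  intro s hs hk h1 h2
  obtain ⟨k, hk⟩ := hk
  have : Finite K := Nat.finite_of_card_ne_zero (by rw [hK]; norm_num)
  have h3 := Cfsg.Agent.H150.F43.Dim.cent_card_le hK (nondeg_oddForm 4 K (two_ne hK)) finrank_VV hs hk h1 h2
  refine le_trans (le_of_eq ?_) h3
  exact Nat.card_congr (Equiv.subtypeEquivRight fun g => by
    rw [Subgroup.mem_inf, Subgroup.mem_centralizer_singleton_iff])

theorem card_t2 [Finite K] (hK : Nat.card K = 3) :
    Nat.card (Subgroup.centralizer ({t2 K} : Set ↥(chevF4.group K))) = 220096880640 := by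
  have : Fintype K := Fintype.ofFinite K
  have ho : Odd (Fintype.card K) := by
    rw [← Nat.card_eq_fintype_card, hK]
    decide
  obtain ⟨p, hpp, hpc, hp2⟩ := exists_char K ho
  have : Fact p.Prime := ⟨hpp⟩
  have hW : Finite (CoxeterMatrix.F₄).Group := Nat.finite_of_card_ne_zero (by rw [cardW]; norm_num)
  have hc1 : Nat.card (chevF4.diagonalSubgroup K) = (Nat.card K - 1) ^ 4 := by
    have := Cfsg.Agent.S1035.result (F := K) rfl (chevF4, 1) (by simp)
    rw [Nat.card_eq_fintype_card (α := K)]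
    rwa [one_mul] at this
  have hT : Nat.card ↥(TT chevF4 K) = (Nat.card K - 1) ^ 4 := by
    rw [← hc1]
    exact Nat.card_congr (Subgroup.subgroupOfEquivOfLe
      (Cfsg.Agent.ChevalleyStructure.Elts.diagonal_le_group (Nodes.KindF.isType).inList K)).toEquiv
  have h := D_TabC3A1.card_cent Cfsg.Agent.H557.OrbF4.hcm (K := K) p (two_ne hK) inj_F4 hT
  have hm : Cfsg.Agent.H557.TabC3A1.tab.m = 10 := by decide +kernel
  rw [hm, hK] at h
  exact h.trans (by norm_num)

/-- **The dichotomy.** -/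
theorem dich (hK : Nat.card K = 3) {g : ↥(chevF4.group K)} {a b : ℕ} (ha : 1 ≤ a)
    (ho : orderOf g = 2 ^ a * 3 ^ b) :
    (∃ x, Commute g (x * xc Cfsg.Agent.Nodes.KindF.isType (vec chevF4 4 47) (1 : K) * x⁻¹)) ∨
      Nat.card (Subgroup.centralizer ({g} : Set ↥(chevF4.group K))) ≤ 4976985092 := by
  have : Finite K := Nat.finite_of_card_ne_zero (by rw [hK]; norm_num)
  have hodd : Odd (Nat.card K) := by rw [hK]; decide
  -- the involution
  have h2 : 2 ∣ orderOf g := by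
    rw [ho]
    exact Dvd.dvd.mul_right (dvd_pow_self 2 (by omega)) _
  obtain ⟨m, hm⟩ := h2
  have hpos : 0 < orderOf g := by
    rw [ho]
    positivity
  have hτ : orderOf (g ^ m) = 2 := by
    have hm0 : m ≠ 0 := by rintro rfl; omega
    rw [orderOf_pow' g hm0, hm, Nat.gcd_eq_right (Dvd.intro_left 2 rfl), Nat.mul_div_cancel _ (Nat.pos_of_ne_zero hm0)]
  -- conjugation
  have conj : ∀ {t y : ↥(chevF4.group K)}, y * g ^ m * y⁻¹ = t → t ∈ Subgroup.zpowers (y * g * y⁻¹) := by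
    rintro t y rfl
    exact ⟨m, by simp only [zpow_natCast, conj_pow]⟩
  have back : ∀ {y z : ↥(chevF4.group K)}, (∃ x, Commute (y * g * y⁻¹) (x * z * x⁻¹)) → ∃ x, Commute g (x * z * x⁻¹) := by
    rintro y z ⟨x, hx⟩
    refine ⟨y⁻¹ * x, ?_⟩
    have h1 : y⁻¹ * x * z * (y⁻¹ * x)⁻¹ = y⁻¹ * (x * z * x⁻¹) * y := by group
    have h3 : g = y⁻¹ * (y * g * y⁻¹) * y := by group
    rw [h1, h3]
    show y⁻¹ * (y * g * y⁻¹) * y * (y⁻¹ * (x * z * x⁻¹) * y) = y⁻¹ * (x * z * x⁻¹) * y * (y⁻¹ * (y * g * y⁻¹) * y)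
    have h4 : ∀ p q : ↥(chevF4.group K), y⁻¹ * p * y * (y⁻¹ * q * y) = y⁻¹ * (p * q) * y := fun p q => by group
    rw [h4, h4, hx.eq]
  have hcc : ∀ y : ↥(chevF4.group K), Nat.card (Subgroup.centralizer ({g} : Set ↥(chevF4.group K))) =
      Nat.card (Subgroup.centralizer ({y * g * y⁻¹} : Set ↥(chevF4.group K))) := fun y =>
    card_centralizer_conj (isConj_iff.2 ⟨y, rfl⟩)
  rcases two_cls hodd hτ with h | h
  · obtain ⟨y, hy⟩ := isConj_iff.1 h
    rcases t1_case hK (bnd hK) (conj hy) (a := a) (b := b) (by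
        rw [conj_pow, ← ho, pow_orderOf_eq_one, mul_one, mul_inv_cancel]) with h3 | h3
    · exact Or.inl (back h3)
    · right
      rw [hcc y]
      exact h3
  · obtain ⟨y, hy⟩ := isConj_iff.1 h
    rcases dich_A45 hK (conj hy) with h3 | h3
    · exact Or.inl (back h3)
    · right
      rw [hcc y]
      rw [card_t2 hK] at h3
      omega

end Cfsg.Agent.H885.Pw.DichF
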