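import Cfsg.Agent.H885.Pw.JE
import Cfsg.Agent.H885.BS.OrthB

/-!
helper885 (S2465, `F4(3)`): Siegel elements of the 9-dimensional space are images of long root elements.
-/

set_option autoImplicit false
set_option linter.unusedSectionVars false

namespace Cfsg.Agent.H885.Pw.JB

open Cfsg Cfsg.Lie Module Matrix
open Cfsg.Agent.ChevalleyStructure Cfsg.Agent.ChevalleyStructure.Elts
open Cfsg.Agent.ChevalleyStructure.E6Min.Tables Cfsg.Agent.ChevalleyStructure.E6Min.Basic
open Cfsg.Agent.H952.F4 Cfsg.Agent.H952.F4.Jord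
open Cfsg.Agent.LieClassical Cfsg.Agent.LieClassical.OrthForms Cfsg.Agent.LieClassical.OrthCore
  Cfsg.Agent.LieClassical.OrthTrans Cfsg.Agent.LieClassical.OrthFinite Cfsg.Agent.LieClassical.OrthSimple
open Cfsg.Agent.H557.InvF4 Cfsg.Agent.OddHalf.NI.ModelChev
open Cfsg.Agent.Tits.Roots Cfsg.Agent.Nodes.BNOf Cfsg.Agent.Nodes.RGDChev Cfsg.Agent.KFacts.RgdChevCoord
open Cfsg.Agent.H885.BS.Orth Cfsg.Agent.H141.Rg Cfsg.Agent.H367.Rg.Gluck

universe u

variable {K : Type u} [Field K]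

/-- the long root element -/
noncomputable abbrev z47 (K : Type u) [Field K] : ↥(chevF4.group K) :=
  xc Cfsg.Agent.Nodes.KindF.isType (vec chevF4 4 47) (1 : K)

theorem z47_xMat : ((z47 K : GL chevF4.Idx K) : Matrix chevF4.Idx chevF4.Idx K) = chevF4.xMat K ⟨47, by decide⟩ 1 := by
  rw [z47, coe_xc Cfsg.Agent.Nodes.KindF.isType (by decide), coe_xG, x_of_lt (by decide)]

variable {ρ : ↥(chevF4.group K) →* GL I27 K}

theorem z47_apply (hρ : IsJ ρ) (x : I27 → K) (i : I27) :
    JK ρ (z47 K) x i = x i - (((Cfsg.Agent.ChevalleyStructure.E6Min.Basic.sg 32 i : ℤ) : K) * x (sr 32 i)) := by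
  rw [Inv.JK_apply, hρ ⟨47, by decide⟩ 1 (z47 K) z47_xMat]
  have h1 : yM (47 : ℕ) (1 : K) = zM 32 (-1) := by
    show (List.map _ [(32, (-1 : ℤ))]).prod = _
    simp
  show (yM 47 (1 : K) *ᵥ x) i = _
  rw [h1, zM_mulVec]
  ring

theorem pl_sr32 : ∀ i : I27, Cfsg.Agent.ChevalleyStructure.E6Min.Basic.sg 32 i = 0 ∨ pl (sr 32 i) = pl i := by
  decide +kernel

theorem JK_inj (hi : Function.Injective ρ) {g h : ↥(chevF4.group K)} (H : ∀ x, JK ρ g x = JK ρ h x) : g = h := by
  apply hi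
  apply Units.ext
  apply Matrix.toLin'.injective
  exact LinearMap.ext H

theorem z47_comm (hρ : IsJ ρ) (hi : Function.Injective ρ) {t : ↥(chevF4.group K)} (ht : IsT ρ t) :
    z47 K * t = t * z47 K := by
  apply JK_inj hi
  intro x
  rw [map_mul, map_mul, Module.End.mul_apply, Module.End.mul_apply]
  funext i
  rw [z47_apply hρ, ht, ht, ht, z47_apply hρ]
  rcases pl_sr32 i with h | h
  · rw [h]
    simp
  · rw [h]
    split_ifs <;> ring

/-- base pair -/
def bu (K : Type u) [Field K] : VV K := Pi.single (.inr (.inr 1)) 1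

/-- base pair -/
def bv (K : Type u) [Field K] : VV K := Pi.single (.inr (.inr 2)) 1

theorem TS_b : TS (oddForm 4 K) (bu K) (bv K) := by
  refine ⟨?_, ?_, ?_⟩
  · rw [coe_oddForm, quadFormOdd_apply]
    simp [bu]
  · rw [coe_oddForm, quadFormOdd_apply]
    simp [bv]
  · rw [polar_oddForm]
    simp [bu, bv]

theorem LI_b : LI K (bu K) (bv K) := by
  intro a b h
  have h1 := congrFun h (.inr (.inr 1))
  have h2 := congrFun h (.inr (.inr 2))
  simp [bu, bv] at h1 h2
  exact ⟨h1, h2⟩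

theorem polar_bu (y : VV K) : QuadraticMap.polar (oddForm 4 K) (bu K) y = y (.inr (.inl 1)) := by
  rw [polar_oddForm]
  simp [bu, Pi.single_apply]

theorem polar_bv (y : VV K) : QuadraticMap.polar (oddForm 4 K) (bv K) y = y (.inr (.inl 2)) := by
  rw [polar_oddForm]
  simp [bv, Pi.single_apply]

theorem tab32 : ∀ i : I27, pl i = true → Cfsg.Agent.ChevalleyStructure.E6Min.Basic.sg 32 i =
    if i = (2, 0, 2) then 1 else if i = (2, 1, 2) then -1 else 0 := by
  decide +kernel

theorem sr202 : E6Min.Basic.sr 32 ((2, 0, 2) : I27) = (1, 2, 1) := by decide +kernel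

theorem sr212 : E6Min.Basic.sr 32 ((2, 1, 2) : I27) = (1, 2, 0) := by decide +kernel

/-- the image of the long root element -/
theorem Ph_z47 (hρ : IsJ ρ) (h2 : (2 : K) ≠ 0) {t : ↥(chevF4.group K)} (ht : IsT ρ t)
    (hz : z47 K ∈ Subgroup.centralizer ({t} : Set ↥(chevF4.group K))) :
    Ph hρ h2 ht ⟨z47 K, hz⟩ = (sx (oddForm 4 K) (bu K) (bv K) : VV K ≃ₗ[K] VV K) := by
  apply LinearEquiv.ext
  intro y
  rw [sx_apply TS_b, polar_bu, polar_bv]
  apply io_inj
  rw [io_Ph]
  funext i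
  rw [z47_apply hρ]
  by_cases hp : pl i = true
  swap
  · have hp' : pl i = false := by simpa using hp
    rw [inJ_io _ i hp', inJ_io _ i hp']
    rcases pl_sr32 i with h | h
    · rw [h]
      simp
    · rw [inJ_io _ (sr 32 i) (h.trans hp'), mul_zero, sub_zero]
  rw [tab32 i hp]
  by_cases h1 : i = (2, 0, 2)
  · subst h1
    rw [sr202]
    simp [io, ofM, bu, bv]
  · rw [if_neg h1]
    by_cases h3 : i = (2, 1, 2)
    · subst h3
      rw [sr212]
      simp [io, ofM, bu, bv]
    · rw [if_neg h3]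
      simp only [Int.cast_zero, zero_mul, sub_zero]
      obtain ⟨k, i, j⟩ := i
      revert hp h1 h3
      fin_cases k <;> fin_cases i <;> fin_cases j <;> intro hp h1 h3 <;>
        first
          | (exact absurd hp (by decide))
          | (exact absurd rfl h1)
          | (exact absurd rfl h3)
          | (simp [io, ofM, bu, bv]; done)

theorem sx_map {F V : Type*} [Field F] [AddCommGroup V] [Module F V] {Q : QuadraticForm F V} {g : V ≃ₗ[F] V}
    (hg : g ∈ O Q) {u v : V} (h : TS Q u v) (y : V) :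
    g ((sx Q u v : V ≃ₗ[F] V) y) = (sx Q (g u) (g v) : V ≃ₗ[F] V) (g y) := by
  rw [sx_apply h, sx_apply (h.map hg), polar_map hg, polar_map hg]
  simp only [map_add, map_sub, map_smul]

theorem z47_mem (hρ : IsJ ρ) (hi : Function.Injective ρ) {t : ↥(chevF4.group K)} (ht : IsT ρ t) :
    z47 K ∈ Subgroup.centralizer ({t} : Set ↥(chevF4.group K)) :=
  Subgroup.mem_centralizer_singleton_iff.2 (z47_comm hρ hi ht)

theorem finrank_VV : finrank K (VV K) = 9 := by
  rw [Module.finrank_fintype_fun_eq_card]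
  decide

theorem exists_z [Finite K] (hK : Nat.card K = 3) (hρ : IsJ ρ) (hi : Function.Injective ρ) {u v : VV K}
    (h : TS (oddForm 4 K) u v) (hl : LI K u v) :
    ∃ (x : ↥(Subgroup.centralizer ({t1 K} : Set ↥(chevF4.group K)))) (s : K),
      Ph hρ (two_ne hK) (isT_t1 hρ) (x * ⟨z47 K, z47_mem hρ hi (isT_t1 hρ)⟩ * x⁻¹) =
        (sx (oddForm 4 K) u (s • v) : VV K ≃ₗ[K] VV K) := by
  have hQ : Nondeg (oddForm 4 K) := nondeg_oddForm 4 K (two_ne hK)
  obtain ⟨g, hg⟩ := exists_conj (π := MonoidHom.id ↥(E (oddForm 4 K))) hQ (by rw [finrank_VV]; norm_num) TS_b LI_b h hl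
  have h1 : sx (oddForm 4 K) (bu K) (bv K) ∈ XX (MonoidHom.id ↥(E (oddForm 4 K))) (bu K) (bv K) :=
    (mem_XX TS_b).2 ⟨1, by rw [one_smul]; rfl⟩
  have h2 : g * sx (oddForm 4 K) (bu K) (bv K) * g⁻¹ ∈ XX (MonoidHom.id ↥(E (oddForm 4 K))) u v := by
    rw [hg]
    rw [mem_cj]
    have h3 : g⁻¹ * (g * sx (oddForm 4 K) (bu K) (bv K) * g⁻¹) * g = sx (oddForm 4 K) (bu K) (bv K) := by group
    rw [h3]
    exact h1
  obtain ⟨s, hs⟩ := (mem_XX h).1 h2
  obtain ⟨x, hx⟩ := E_le_range hK hρ hi g.2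
  refine ⟨x, s, ?_⟩
  rw [map_mul, map_mul, map_inv, Ph_z47, hx]
  exact congrArg (fun y : ↥(E (oddForm 4 K)) => (y : VV K ≃ₗ[K] VV K)) hs

theorem z47_cube [Finite K] (hK : Nat.card K = 3) : z47 K ^ 3 = 1 := by
  have : Fintype K := Fintype.ofFinite K
  have h3 : (3 : K) = 0 := by
    have h1 : ((Fintype.card K : ℕ) : K) = 0 := Nat.cast_card_eq_zero K
    rw [← Nat.card_eq_fintype_card, hK] at h1
    exact_mod_cast h1
  apply Subtype.ext
  rw [Subgroup.coe_pow, z47, coe_xc Cfsg.Agent.Nodes.KindF.isType (by decide), pow_succ, pow_two, xG_add, xG_add,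
    Subgroup.coe_one]
  have : (1 + 1 + 1 : K) = 0 := by rw [← h3]; norm_num
  rw [this, xG_zero]

theorem t_ne_one (h2 : (2 : K) ≠ 0) {t : ↥(chevF4.group K)} (ht : IsT ρ t) : t ≠ 1 := by
  rintro rfl
  have h1 := ht (Pi.single (0, 0, 2) 1) (0, 0, 2)
  rw [if_neg (by decide), map_one, Module.End.one_apply, Pi.single_eq_same] at h1
  apply h2
  linear_combination h1

theorem t_sq {t : ↥(chevF4.group K)} (hi : Function.Injective ρ) (ht : IsT ρ t) : t * t = 1 := by
  apply JK_inj hi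
  intro x
  rw [map_mul, Module.End.mul_apply, map_one, Module.End.one_apply]
  funext i
  rw [ht, ht]
  split_ifs with h
  · rfl
  · rw [neg_neg]

/-- **an element of `C(t₁)` preserving a totally singular line with determinant 1 commutes with a long root
element** -/
theorem commute_long [Finite K] (hK : Nat.card K = 3) (hρ : IsJ ρ) (hi : Function.Injective ρ) {u v : VV K}
    (h : TS (oddForm 4 K) u v) (hl : LI K u v) {g : ↥(Subgroup.centralizer ({t1 K} : Set ↥(chevF4.group K)))}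
    {a b c d : K} (hu : Ph hρ (two_ne hK) (isT_t1 hρ) g u = a • u + b • v)
    (hv : Ph hρ (two_ne hK) (isT_t1 hρ) g v = c • u + d • v) (hd : a * d - b * c = 1) :
    ∃ x, Commute (g : ↥(chevF4.group K)) (x * z47 K * x⁻¹) := by
  obtain ⟨x, s, hx⟩ := exists_z hK hρ hi h hl
  set P := Ph hρ (two_ne hK) (isT_t1 hρ) with hP
  set z : ↥(Subgroup.centralizer ({t1 K} : Set ↥(chevF4.group K))) :=
    x * ⟨z47 K, z47_mem hρ hi (isT_t1 hρ)⟩ * x⁻¹ with hz
  have h1 : P g * P z = P z * P g := by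
    apply LinearEquiv.ext
    intro y
    rw [LinearEquiv.mul_apply, LinearEquiv.mul_apply, hx, sx_map (Ph_mem_O hρ (two_ne hK) (isT_t1 hρ) g) (h.smul_right s),
      ← hP, map_smul, hu, hv]
    have h2 := sx_comb h a b (s * c) (s * d)
    rw [show s • (c • u + d • v) = (s * c) • u + (s * d) • v by rw [smul_add, smul_smul, smul_smul], h2,
      show a * (s * d) - b * (s * c) = s by linear_combination s * hd]
  have h2 : P (g * z * g⁻¹ * z⁻¹) = 1 := by
    rw [map_mul, map_mul, map_mul, map_inv, map_inv, h1]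
    group
  have hz3 : z ^ 3 = 1 := by
    rw [hz, conj_pow]
    have : (⟨z47 K, z47_mem hρ hi (isT_t1 hρ)⟩ : ↥(Subgroup.centralizer ({t1 K} : Set ↥(chevF4.group K)))) ^ 3 = 1 :=
      Subtype.ext (z47_cube hK)
    rw [this, mul_one, mul_inv_cancel]
  have h3 : g * z * g⁻¹ * z⁻¹ = 1 := by
    rcases ker_Ph hρ (two_ne hK) (isT_t1 hρ) hi h2 with h3 | h3
    · exact Subtype.ext h3
    · exfalso
      set τ := g * z * g⁻¹ * z⁻¹ with hτ
      have h4 : g * z * g⁻¹ = τ * z := by rw [hτ]; group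
      have h5 : Commute τ z := by
        apply Subtype.ext
        show (τ : ↥(chevF4.group K)) * (z : ↥(chevF4.group K)) = (z : ↥(chevF4.group K)) * (τ : ↥(chevF4.group K))
        rw [h3]
        exact (comm_of_mem z.2).symm
      have h6 : (g * z * g⁻¹) ^ 3 = 1 := by rw [conj_pow, hz3, mul_one, mul_inv_cancel]
      rw [h4, h5.mul_pow, hz3, mul_one] at h6
      have h7 : (t1 K) ^ 3 = 1 := by
        rw [← h3]
        exact congrArg Subtype.val h6
      rw [pow_succ, pow_two, t_sq hi (isT_t1 hρ), one_mul] at h7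
      exact t_ne_one (two_ne hK) (isT_t1 hρ) h7
  refine ⟨(x : ↥(chevF4.group K)), ?_⟩
  have h4 : g * z = z * g := by
    have := congrArg (fun w => w * z * g) h3
    simpa [mul_assoc] using this
  exact congrArg Subtype.val h4

end Cfsg.Agent.H885.Pw.JB
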