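import Mathlib
import Cfsg.Agent.H952.F4.JMod
import Cfsg.Agent.H952.F4.Inv
import Cfsg.Agent.H952.F4.Jord
import Cfsg.Agent.LieClassical.OrthForms

/-!
helper885 (S2465, `F4(3)`): the centralizer of the involution `t` of `F4` of type `B4` on the 27-dimensional module:
`C(t)` fixes the idempotent `e` and preserves the 9-dimensional quadratic space `io (K^9)`.
-/

set_option autoImplicit false
set_option linter.unusedSectionVars false
set_option linter.unusedSimpArgs false
set_option linter.unusedTactic false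
set_option linter.unreachableTactic false

namespace Cfsg.Agent.H885.Pw.JB

open Cfsg Cfsg.Lie Module Matrix
open Cfsg.Agent.ChevalleyStructure.E6Min.Tables Cfsg.Agent.ChevalleyStructure.E6Min.Basic
open Cfsg.Agent.H952.F4 Cfsg.Agent.H952.F4.Jord
open Cfsg.Agent.LieClassical Cfsg.Agent.LieClassical.OrthForms

universe u

/-- the 9-dimensional space -/
abbrev VV (K : Type u) := Unit ⊕ (Fin 4 ⊕ Fin 4) → K

/-- the faithful module -/
theorem exists_J (K : Type u) [Field K] : ∃ ρ : ↥(chevF4.group K) →* GL I27 K, IsJ ρ ∧ Function.Injective ρ := by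
  refine ⟨(Cfsg.Agent.H333.F4J.Ad.FZ K).subtype.comp (Cfsg.Agent.H333.F4J.Ad.eqv K).symm.toMonoidHom, ?_, ?_⟩
  · intro r t g hg
    have h1 : (g : GL chevF4.Idx K) = Cfsg.Agent.ChevalleyStructure.Elts.xG hF4 r.val t := by
      apply Units.ext
      rw [hg, Cfsg.Agent.H333.F4J.Ad.coe_xG_lt r.isLt]
    have h2 := Cfsg.Agent.H333.F4J.Ad.eqv_symm_xG r.isLt t g h1
    change (((Cfsg.Agent.H333.F4J.Ad.eqv K).symm g : Cfsg.Agent.H333.F4J.Ad.FZ K) : GL I27 K).val = _
    rw [h2]
    exact Cfsg.Agent.H333.F4J.Ad.coe_yU r.isLt t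
  · exact (Subgroup.subtype_injective _).comp (MulEquiv.injective _)

section Ring

variable {K : Type u} [Field K]

/-- the embedding of the 9-dimensional space in `J` -/
def io : VV K →ₗ[K] (I27 → K) where
  toFun v := ofM !![v (.inl ()), v (.inr (.inl 0)), 0; v (.inr (.inr 0)), -v (.inl ()), 0; 0, 0, 0]
    !![0, 0, 0; 0, 0, 0; v (.inr (.inl 1)), v (.inr (.inl 2)), v (.inr (.inl 3))]
    !![0, 0, v (.inr (.inr 1)); 0, 0, v (.inr (.inr 2)); 0, 0, v (.inr (.inr 3))]
  map_add' v w := by
    refine ext27 fun k i j => ?_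
    fin_cases k <;> fin_cases i <;> fin_cases j <;> simp [ofM, add_comm]
  map_smul' c v := by
    refine ext27 fun k i j => ?_
    fin_cases k <;> fin_cases i <;> fin_cases j <;> simp [ofM]

/-- a left inverse of `io` -/
def po : (I27 → K) →ₗ[K] VV K where
  toFun x := Sum.elim (fun _ => x (0, 0, 0)) (Sum.elim ![x (0, 0, 1), x (1, 2, 0), x (1, 2, 1), x (1, 2, 2)]
    ![x (0, 1, 0), x (2, 0, 2), x (2, 1, 2), x (2, 2, 2)])
  map_add' v w := by
    funext a
    rcases a with _ | a | a
    · rfl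
    · fin_cases a <;> rfl
    · fin_cases a <;> rfl
  map_smul' c v := by
    funext a
    rcases a with _ | a | a
    · rfl
    · fin_cases a <;> rfl
    · fin_cases a <;> rfl

theorem po_io (v : VV K) : po (io v) = v := by
  funext a
  rcases a with _ | a | a
  · simp [po, io, ofM]
  · fin_cases a <;> simp [po, io, ofM]
  · fin_cases a <;> simp [po, io, ofM]

/-- the idempotent -/
def ee (K : Type u) [Field K] : I27 → K := Pi.single (0, 2, 2) 1

theorem sh_io (v : VV K) : sh (io v) = (-(oddForm 4 K) v) • ee K := by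
  refine ext27 fun k i j => ?_
  rw [coe_oddForm, quadFormOdd_apply, Fin.sum_univ_four]
  fin_cases k <;> fin_cases i <;> fin_cases j <;>
    simp only [Fin.zero_eta, Fin.mk_one, Fin.reduceFinMk, sh000, sh001, sh002, sh010, sh011,
      sh012, sh020, sh021, sh022, sh100, sh101, sh102, sh110, sh111, sh112, sh120, sh121, sh122, sh200, sh201, sh202,
      sh210, sh211, sh212, sh220, sh221, sh222] <;> simp [io, ofM, ee]
  ring

/-- the coordinates on which the involution is trivial -/
def pl (i : I27) : Bool := decide (code i ∈ [0, 1, 3, 4, 8, 15, 16, 17, 20, 23, 26])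

/-- the fixed vectors of the involution -/
def InJ (x : I27 → K) : Prop := ∀ i, pl i = false → x i = 0

theorem inJ_io (v : VV K) : InJ (io v) := by
  rintro ⟨k, i, j⟩
  fin_cases k <;> fin_cases i <;> fin_cases j <;> simp [pl, code, io, ofM]

theorem inJ_ee : InJ (ee K) := by
  rintro ⟨k, i, j⟩
  fin_cases k <;> fin_cases i <;> fin_cases j <;> simp [pl, code, ee]

/-- `io` is onto the fixed vectors orthogonal to `1` and `e` -/
theorem io_po {x : I27 → K} (hx : InJ x) (h1 : x (0, 2, 2) = 0) (h2 : x (0, 0, 0) + x (0, 1, 1) = 0) :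
    io (po x) = x := by
  refine ext27 fun k i j => ?_
  fin_cases k <;> fin_cases i <;> fin_cases j <;>
    simp only [Fin.zero_eta, Fin.mk_one, Fin.reduceFinMk, Fin.isValue] <;>
    first
      | (rw [hx _ (by decide)]; simp [io, ofM]; done)
      | (simp [io, po, ofM, h1]; done)
      | (simp [io, po, ofM]; linear_combination -h2)

theorem tr1_ee : tr1 (ee K) = 1 := by simp [tr1, Matrix.trace, mat3, ee, Fin.sum_univ_three]

theorem tr1_io (v : VV K) : tr1 (io v) = 0 := by
  simp [tr1, Matrix.trace, mat3, io, ofM, Fin.sum_univ_three]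

theorem tf_ee (x : I27 → K) : tf x (ee K) = x (0, 2, 2) := by
  rw [tf_eq]
  simp [ee, Fin.sum_univ_three]

theorem sh_ee : sh (ee K) = 0 := by
  refine ext27 fun k i j => ?_
  fin_cases k <;> fin_cases i <;> fin_cases j <;>
    simp only [Fin.zero_eta, Fin.mk_one, Fin.reduceFinMk, sh000, sh001, sh002, sh010, sh011,
      sh012, sh020, sh021, sh022, sh100, sh101, sh102, sh110, sh111, sh112, sh120, sh121, sh122, sh200, sh201, sh202,
      sh210, sh211, sh212, sh220, sh221, sh222] <;> simp [ee]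

/-- the product `cr` on the fixed vectors -/
theorem crJ {x y : I27 → K} (hx : InJ x) (hy : InJ y) :
    cr x y (0, 0, 0) = x (0, 1, 1) * y (0, 2, 2) + y (0, 1, 1) * x (0, 2, 2) ∧
    cr x y (0, 0, 1) = -(x (0, 0, 1) * y (0, 2, 2)) + -(y (0, 0, 1) * x (0, 2, 2)) ∧
    cr x y (0, 1, 0) = -(x (0, 1, 0) * y (0, 2, 2)) + -(y (0, 1, 0) * x (0, 2, 2)) ∧
    cr x y (0, 1, 1) = x (0, 0, 0) * y (0, 2, 2) + y (0, 0, 0) * x (0, 2, 2) ∧
    cr x y (1, 2, 0) = -(x (1, 2, 0) * y (0, 2, 2)) + -(y (1, 2, 0) * x (0, 2, 2)) ∧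
    cr x y (1, 2, 1) = -(x (1, 2, 1) * y (0, 2, 2)) + -(y (1, 2, 1) * x (0, 2, 2)) ∧
    cr x y (1, 2, 2) = -(x (1, 2, 2) * y (0, 2, 2)) + -(y (1, 2, 2) * x (0, 2, 2)) ∧
    cr x y (2, 0, 2) = -(x (2, 0, 2) * y (0, 2, 2)) + -(y (2, 0, 2) * x (0, 2, 2)) ∧
    cr x y (2, 1, 2) = -(x (2, 1, 2) * y (0, 2, 2)) + -(y (2, 1, 2) * x (0, 2, 2)) ∧
    cr x y (2, 2, 2) = -(x (2, 2, 2) * y (0, 2, 2)) + -(y (2, 2, 2) * x (0, 2, 2)) := by
  have a1 := hx (0, 0, 2) (by decide); have b1 := hy (0, 0, 2) (by decide)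
  have a2 := hx (0, 1, 2) (by decide); have b2 := hy (0, 1, 2) (by decide)
  have a3 := hx (0, 2, 0) (by decide); have b3 := hy (0, 2, 0) (by decide)
  have a4 := hx (0, 2, 1) (by decide); have b4 := hy (0, 2, 1) (by decide)
  have a5 := hx (1, 0, 0) (by decide); have b5 := hy (1, 0, 0) (by decide)
  have a6 := hx (1, 0, 1) (by decide); have b6 := hy (1, 0, 1) (by decide)
  have a7 := hx (1, 0, 2) (by decide); have b7 := hy (1, 0, 2) (by decide)
  have a8 := hx (1, 1, 0) (by decide); have b8 := hy (1, 1, 0) (by decide)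
  have a9 := hx (1, 1, 1) (by decide); have b9 := hy (1, 1, 1) (by decide)
  have a10 := hx (1, 1, 2) (by decide); have b10 := hy (1, 1, 2) (by decide)
  have a11 := hx (2, 0, 0) (by decide); have b11 := hy (2, 0, 0) (by decide)
  have a12 := hx (2, 0, 1) (by decide); have b12 := hy (2, 0, 1) (by decide)
  have a13 := hx (2, 1, 0) (by decide); have b13 := hy (2, 1, 0) (by decide)
  have a14 := hx (2, 1, 1) (by decide); have b14 := hy (2, 1, 1) (by decide)
  have a15 := hx (2, 2, 0) (by decide); have b15 := hy (2, 2, 0) (by decide)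
  have a16 := hx (2, 2, 1) (by decide); have b16 := hy (2, 2, 1) (by decide)
  refine ⟨?_, ?_, ?_, ?_, ?_, ?_, ?_, ?_, ?_, ?_⟩ <;>
    simp only [cr, Pi.sub_apply, Pi.add_apply, sh000, sh001, sh010, sh011, sh120, sh121, sh122, sh202, sh212, sh222,
      a1, a2, a3, a4, a5, a6, a7, a8, a9, a10, a11, a12, a13, a14, a15, a16,
      b1, b2, b3, b4, b5, b6, b7, b8, b9, b10, b11, b12, b13, b14, b15, b16] <;> ring

end Ring

section Grp

variable {K : Type u} [Field K] {ρ : ↥(chevF4.group K) →* GL I27 K}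

/-- `t` is the involution -/
def IsT (ρ : ↥(chevF4.group K) →* GL I27 K) (t : ↥(chevF4.group K)) : Prop :=
  ∀ x i, JK ρ t x i = if pl i = true then x i else -x i

theorem IsT.fix_iff (h2 : (2 : K) ≠ 0) {t : ↥(chevF4.group K)} (ht : IsT ρ t) (x : I27 → K) :
    JK ρ t x = x ↔ InJ x := by
  constructor
  · intro h i hi
    have h1 := ht x i
    rw [h, if_neg (by rw [hi]; exact Bool.false_ne_true)] at h1
    have h3 : 2 * x i = 0 := by linear_combination h1
    exact (mul_eq_zero.1 h3).resolve_left h2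
  · intro h
    funext i
    rw [ht x i]
    split_ifs with hi
    · rfl
    · rw [h i (by simpa using hi), neg_zero]

theorem IsT.neg_iff (h2 : (2 : K) ≠ 0) {t : ↥(chevF4.group K)} (ht : IsT ρ t) (x : I27 → K) :
    JK ρ t x = -x ↔ ∀ i, pl i = true → x i = 0 := by
  constructor
  · intro h i hi
    have h1 := ht x i
    rw [h, if_pos hi, Pi.neg_apply] at h1
    have h3 : 2 * x i = 0 := by linear_combination -h1
    exact (mul_eq_zero.1 h3).resolve_left h2
  · intro h
    funext i
    rw [ht x i, Pi.neg_apply]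
    split_ifs with hi
    · rw [h i hi, neg_zero]
    · rfl

theorem JK_comm {g t : ↥(chevF4.group K)} (h : g * t = t * g) (x : I27 → K) : JK ρ g (JK ρ t x) = JK ρ t (JK ρ g x) := by
  rw [← Module.End.mul_apply, ← map_mul, h, map_mul, Module.End.mul_apply]

theorem IsT.inJ (h2 : (2 : K) ≠ 0) {t g : ↥(chevF4.group K)} (ht : IsT ρ t) (h : g * t = t * g) {x : I27 → K}
    (hx : InJ x) : InJ (JK ρ g x) := by
  rw [← ht.fix_iff h2] at hx ⊢
  rw [← JK_comm h, hx]

theorem cr_inv (h : IsJ ρ) (h2 : (2 : K) ≠ 0) (g : ↥(chevF4.group K)) (x y : I27 → K) :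
    cr (JK ρ g x) (JK ρ g y) = JK ρ g (cr x y) := by
  unfold cr
  rw [← map_add, Inv.sh_inv h h2, Inv.sh_inv h h2, Inv.sh_inv h h2, map_sub, map_sub]

/-- the idempotent is fixed -/
theorem IsT.ee_fix (hρ : IsJ ρ) (h2 : (2 : K) ≠ 0) {t g : ↥(chevF4.group K)} (ht : IsT ρ t) (h : g * t = t * g) :
    JK ρ g (ee K) = ee K := by
  set f := JK ρ g (ee K) with hf
  have f1 : InJ f := ht.inJ h2 h inJ_ee
  have f2 : sh f = 0 := by rw [hf, Inv.sh_inv hρ h2, sh_ee, map_zero]
  have f3 : tr1 f = 1 := by rw [hf, Inv.tr1_inv hρ h2, tr1_ee]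
  have f3' : f (0, 0, 0) + f (0, 1, 1) + f (0, 2, 2) = 1 := by
    simpa [tr1, Matrix.trace, mat3, Fin.sum_univ_three] using f3
  by_cases ha : f (0, 2, 2) = 0
  · exfalso
    set x1 : I27 → K := Pi.single (0, 0, 1) 1 with hx1
    have e1 : cr (ee K) x1 = -x1 := by
      refine ext27 fun k i j => ?_
      fin_cases k <;> fin_cases i <;> fin_cases j <;>
        simp only [Fin.zero_eta, Fin.mk_one, Fin.reduceFinMk, cr, Pi.sub_apply, Pi.neg_apply, sh000, sh001, sh002, sh010, sh011,
          sh012, sh020, sh021, sh022, sh100, sh101, sh102, sh110, sh111, sh112, sh120, sh121, sh122, sh200, sh201, sh202,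
          sh210, sh211, sh212, sh220, sh221, sh222] <;> simp [ee, hx1]
    have e2 : sh x1 = 0 := by
      refine ext27 fun k i j => ?_
      fin_cases k <;> fin_cases i <;> fin_cases j <;>
        simp only [Fin.zero_eta, Fin.mk_one, Fin.reduceFinMk, sh000, sh001, sh002, sh010, sh011,
          sh012, sh020, sh021, sh022, sh100, sh101, sh102, sh110, sh111, sh112, sh120, sh121, sh122, sh200, sh201, sh202,
          sh210, sh211, sh212, sh220, sh221, sh222] <;> simp [hx1]
    have e3 : InJ x1 := by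
      rintro ⟨k, i, j⟩
      fin_cases k <;> fin_cases i <;> fin_cases j <;> simp [pl, code, hx1]
    set y := JK ρ g x1 with hy
    have y1 : InJ y := ht.inJ h2 h e3
    have y2 : cr f y = -y := by rw [hf, hy, cr_inv hρ h2, e1, map_neg]
    have y3 : sh y = 0 := by rw [hy, Inv.sh_inv hρ h2, e2, map_zero]
    have hz : ∀ {i}, pl i = false → f i = 0 ∧ y i = 0 := fun hi => ⟨f1 _ hi, y1 _ hi⟩
    obtain ⟨q0, q1, q2, q3, q4, q5, q6, q7, q8, q9⟩ := crJ f1 y1
    have c3 := congrFun y3 (0, 0, 0)
    have c4 := congrFun y3 (0, 1, 1)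
    simp only [Pi.zero_apply, sh000, sh011, y1 (0, 0, 2) (by decide), y1 (0, 1, 2) (by decide), y1 (1, 0, 0) (by decide),
      y1 (1, 0, 1) (by decide), y1 (1, 0, 2) (by decide), y1 (1, 1, 0) (by decide), y1 (1, 1, 1) (by decide),
      y1 (1, 1, 2) (by decide)] at c3 c4
    simp only [y2, Pi.neg_apply, ha, zero_mul, mul_zero, add_zero, zero_add, neg_zero] at q0 q1 q2 q3 q4 q5 q6 q7 q8 q9
    have c5 : y (0, 2, 2) * y (0, 2, 2) = 0 := by
      have := f3'
      rw [ha, add_zero] at this
      linear_combination (-y (0, 2, 2) * y (0, 2, 2)) * this - y (0, 2, 2) * q0 - y (0, 2, 2) * q3 - c3 - c4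
    have c6 : y (0, 2, 2) = 0 := mul_self_eq_zero.1 c5
    simp only [c6, mul_zero, neg_zero, neg_eq_zero] at q0 q1 q2 q3 q4 q5 q6 q7 q8 q9
    have c7 : ∀ i, y i = 0 := by
      intro i
      by_cases hi : pl i = true
      swap
      · exact y1 i (by simpa using hi)
      obtain ⟨k, i, j⟩ := i
      revert hi
      fin_cases k <;> fin_cases i <;> fin_cases j <;> intro hi <;>
        first
          | (exact absurd hi (by decide))
          | assumption
    have c8 : y = 0 := funext c7
    have c9 : x1 = 0 := by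
      have := Inv.JK_inv_apply (ρ := ρ) g x1
      rw [← hy, c8, map_zero] at this
      exact this.symm
    have := congrFun c9 (0, 0, 1)
    simp [hx1] at this
  · -- the other coordinates vanish
    have hz : ∀ {i}, pl i = false → f i = 0 := fun hi => f1 _ hi
    have key : ∀ i, i ≠ (0, 2, 2) → f i = 0 := by
      intro i hi
      by_cases hp : pl i = true
      swap
      · exact f1 i (by simpa using hp)
      have g0 := congrFun f2 (0, 0, 0)
      have g1 := congrFun f2 (0, 0, 1)
      have g2 := congrFun f2 (0, 1, 0)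
      have g3 := congrFun f2 (0, 1, 1)
      have g4 := congrFun f2 (1, 2, 0)
      have g5 := congrFun f2 (1, 2, 1)
      have g6 := congrFun f2 (1, 2, 2)
      have g7 := congrFun f2 (2, 0, 2)
      have g8 := congrFun f2 (2, 1, 2)
      have g9 := congrFun f2 (2, 2, 2)
      simp only [Pi.zero_apply, sh000, sh001, sh010, sh011, sh120, sh121, sh122, sh202, sh212, sh222,
        hz (i := (0, 0, 2)) (by decide), hz (i := (0, 1, 2)) (by decide), hz (i := (0, 2, 0)) (by decide),
        hz (i := (0, 2, 1)) (by decide), hz (i := (1, 0, 0)) (by decide), hz (i := (1, 0, 1)) (by decide),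
        hz (i := (1, 0, 2)) (by decide), hz (i := (1, 1, 0)) (by decide), hz (i := (1, 1, 1)) (by decide),
        hz (i := (1, 1, 2)) (by decide), hz (i := (2, 0, 0)) (by decide), hz (i := (2, 0, 1)) (by decide),
        hz (i := (2, 1, 0)) (by decide), hz (i := (2, 1, 1)) (by decide), hz (i := (2, 2, 0)) (by decide),
        hz (i := (2, 2, 1)) (by decide), mul_zero, zero_mul, sub_zero, add_zero, zero_sub, zero_add, neg_eq_zero,
        mul_eq_zero, ha, or_false, false_or] at g0 g1 g2 g3 g4 g5 g6 g7 g8 g9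
      obtain ⟨k, i, j⟩ := i
      revert hi hp
      fin_cases k <;> fin_cases i <;> fin_cases j <;> intro hi hp <;>
        first
          | (exact absurd hp (by decide))
          | (exact absurd rfl hi)
          | assumption
    have e1 : f = f (0, 2, 2) • ee K := by
      funext i
      by_cases hi : i = (0, 2, 2)
      · rw [hi]; simp [ee]
      · rw [key i hi, Pi.smul_apply, ee, Pi.single_apply, if_neg hi, smul_zero]
    have e2 : f (0, 2, 2) = 1 := by
      rw [key _ (by decide), key _ (by decide), zero_add, zero_add] at f3'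
      exact f3'
    rw [e1, e2, one_smul]

end Grp

end Cfsg.Agent.H885.Pw.JB
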