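import Cfsg.Agent.H885.Pw.JB

/-!
helper885 (S2465, `F4(3)`): the homomorphism `Ph : C(t) → O₉(K)`; its kernel is `{1, t}`.
-/

set_option autoImplicit false
set_option linter.unusedSectionVars false
set_option linter.unusedSimpArgs false
set_option linter.unusedTactic false
set_option linter.unreachableTactic false

namespace Cfsg.Agent.H885.Pw.JB

open Cfsg Cfsg.Lie Module Matrix
open Cfsg.Agent.ChevalleyStructure.E6Min.Tables Cfsg.Agent.ChevalleyStructure.E6Min.Basic
open Cfsg.Agent.H952.F4 Cfsg.Agent.H952.F4.Jord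
open Cfsg.Agent.LieClassical Cfsg.Agent.LieClassical.OrthForms Cfsg.Agent.LieClassical.OrthCore

universe u

variable {K : Type u} [Field K] {ρ : ↥(chevF4.group K) →* GL I27 K} {t : ↥(chevF4.group K)}

theorem io_inj : Function.Injective (io (K := K)) := fun v w h => by rw [← po_io v, ← po_io w, h]

theorem io_022 (v : VV K) : io v (0, 2, 2) = 0 := by simp [io, ofM]

theorem io_sum (v : VV K) : io v (0, 0, 0) + io v (0, 1, 1) = 0 := by simp [io, ofM]

theorem io_po_JK (hρ : IsJ ρ) (h2 : (2 : K) ≠ 0) (ht : IsT ρ t) {g : ↥(chevF4.group K)} (h : g * t = t * g)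
    (v : VV K) : io (po (JK ρ g (io v))) = JK ρ g (io v) := by
  have h1 : InJ (JK ρ g (io v)) := ht.inJ h2 h (inJ_io v)
  have h3 : JK ρ g (io v) (0, 2, 2) = 0 := by
    rw [← tf_ee (JK ρ g (io v)), ← ht.ee_fix hρ h2 h, Inv.tf_inv hρ h2, tf_ee, io_022]
  refine io_po h1 h3 ?_
  have h4 : tr1 (JK ρ g (io v)) = 0 := by rw [Inv.tr1_inv hρ h2, tr1_io]
  have h5 : JK ρ g (io v) (0, 0, 0) + JK ρ g (io v) (0, 1, 1) + JK ρ g (io v) (0, 2, 2) = 0 := by
    simpa [tr1, Matrix.trace, mat3, Fin.sum_univ_three] using h4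
  rw [h3, add_zero] at h5
  exact h5

theorem comm_of_mem {g : ↥(chevF4.group K)} (hg : g ∈ Subgroup.centralizer ({t} : Set ↥(chevF4.group K))) :
    g * t = t * g := Subgroup.mem_centralizer_singleton_iff.1 hg

/-- the action on the 9-dimensional space -/
noncomputable def phL (ρ : ↥(chevF4.group K) →* GL I27 K) (g : ↥(chevF4.group K)) : VV K →ₗ[K] VV K :=
  po ∘ₗ (JK ρ g : (I27 → K) →ₗ[K] (I27 → K)) ∘ₗ io

theorem phL_apply (g : ↥(chevF4.group K)) (v : VV K) : phL ρ g v = po (JK ρ g (io v)) := rfl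

theorem phL_mul (hρ : IsJ ρ) (h2 : (2 : K) ≠ 0) (ht : IsT ρ t) {g h : ↥(chevF4.group K)} (hh : h * t = t * h)
    (v : VV K) : phL ρ g (phL ρ h v) = phL ρ (g * h) v := by
  rw [phL_apply, phL_apply, phL_apply, io_po_JK hρ h2 ht hh, map_mul, Module.End.mul_apply]

theorem phL_one (v : VV K) : phL ρ 1 v = v := by
  rw [phL_apply, map_one, Module.End.one_apply, po_io]

attribute [local irreducible] phL io po

/-- the representation of the centralizer on the 9-dimensional space -/
noncomputable def Ph (hρ : IsJ ρ) (h2 : (2 : K) ≠ 0) (ht : IsT ρ t) :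
    ↥(Subgroup.centralizer ({t} : Set ↥(chevF4.group K))) →* (VV K ≃ₗ[K] VV K) where
  toFun g := LinearEquiv.ofLinearMap (phL ρ (g : ↥(chevF4.group K))) (phL ρ ((g : ↥(chevF4.group K))⁻¹))
    (LinearMap.ext fun v => by
      rw [LinearMap.comp_apply, phL_mul hρ h2 ht (comm_of_mem (inv_mem g.2)), mul_inv_cancel, phL_one]; rfl)
    (LinearMap.ext fun v => by
      rw [LinearMap.comp_apply, phL_mul hρ h2 ht (comm_of_mem g.2), inv_mul_cancel, phL_one]; rfl)
  map_one' := LinearEquiv.ext fun v => phL_one v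
  map_mul' a b := LinearEquiv.ext fun v => by
    rw [LinearEquiv.mul_apply]
    show phL ρ ((a : ↥(chevF4.group K)) * b) v = phL ρ a (phL ρ b v)
    exact (phL_mul hρ h2 ht (comm_of_mem b.2) v).symm

theorem Ph_apply (hρ : IsJ ρ) (h2 : (2 : K) ≠ 0) (ht : IsT ρ t)
    (g : ↥(Subgroup.centralizer ({t} : Set ↥(chevF4.group K)))) (v : VV K) :
    Ph hρ h2 ht g v = phL ρ (g : ↥(chevF4.group K)) v := rfl

theorem io_Ph (hρ : IsJ ρ) (h2 : (2 : K) ≠ 0) (ht : IsT ρ t)
    (g : ↥(Subgroup.centralizer ({t} : Set ↥(chevF4.group K)))) (v : VV K) :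
    io (Ph hρ h2 ht g v) = JK ρ (g : ↥(chevF4.group K)) (io v) := by
  rw [Ph_apply, phL_apply]
  exact io_po_JK hρ h2 ht (comm_of_mem g.2) v

theorem Ph_mem_O (hρ : IsJ ρ) (h2 : (2 : K) ≠ 0) (ht : IsT ρ t)
    (g : ↥(Subgroup.centralizer ({t} : Set ↥(chevF4.group K)))) : Ph hρ h2 ht g ∈ O (oddForm 4 K) := by
  intro v
  have h1 := sh_io (Ph hρ h2 ht g v)
  rw [io_Ph, Inv.sh_inv hρ h2, sh_io, map_smul, ht.ee_fix hρ h2 (comm_of_mem g.2)] at h1
  have h3 := congrFun h1 (0, 2, 2)
  simp [ee] at h3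
  exact h3.symm

/-! ### the kernel -/

/-- every fixed vector is a combination of `io v`, `e` and `1` -/
theorem InJ.eq (h2 : (2 : K) ≠ 0) {x : I27 → K} (hx : InJ x) :
    ∃ (v : VV K) (a b : K), x = io v + a • ee K + b • u0 K := by
  set b : K := (x (0, 0, 0) + x (0, 1, 1)) / 2 with hb
  have hb' : 2 * b = x (0, 0, 0) + x (0, 1, 1) := by rw [hb]; field_simp
  refine ⟨po (x - (x (0, 2, 2) - b) • ee K - b • u0 K), x (0, 2, 2) - b, b, ?_⟩
  have h1 : InJ (x - (x (0, 2, 2) - b) • ee K - b • u0 K) := by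
    intro i hi
    have e1 : ee K i = 0 := inJ_ee i hi
    have e2 : u0 K i = 0 := by
      obtain ⟨k, i, j⟩ := i
      revert hi
      fin_cases k <;> fin_cases i <;> fin_cases j <;> simp [pl, code, u0]
    simp [hx i hi, e1, e2]
  rw [io_po h1]
  · abel
  · simp [ee, u0]
  · simp [ee, u0]
    linear_combination -hb'

theorem fix_of_Ph (hρ : IsJ ρ) (h2 : (2 : K) ≠ 0) (ht : IsT ρ t)
    {g : ↥(Subgroup.centralizer ({t} : Set ↥(chevF4.group K)))} (hg : Ph hρ h2 ht g = 1) {x : I27 → K} (hx : InJ x) :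
    JK ρ (g : ↥(chevF4.group K)) x = x := by
  obtain ⟨v, a, b, rfl⟩ := hx.eq h2
  rw [map_add, map_add, map_smul, map_smul, ht.ee_fix hρ h2 (comm_of_mem g.2), Inv.u0_inv hρ, ← io_Ph hρ h2 ht, hg]
  rfl

/-- the unit vectors -/
def sg (K : Type u) [Field K] (i : I27) : I27 → K := Pi.single i 1

theorem sg_apply (i j : I27) : sg K i j = if j = i then 1 else 0 := by
  unfold sg
  rw [Pi.single_apply]

theorem c01 : cr (sg K (2, 0, 2)) (sg K (0, 2, 1)) = -sg K (2, 0, 1) := by
  refine ext27 fun k i j => ?_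
  fin_cases k <;> fin_cases i <;> fin_cases j <;>
    simp only [Fin.zero_eta, Fin.mk_one, Fin.reduceFinMk, cr, Pi.sub_apply, Pi.neg_apply, Pi.add_apply, sh000, sh001, sh002,
      sh010, sh011, sh012, sh020, sh021, sh022, sh100, sh101, sh102, sh110, sh111, sh112, sh120, sh121, sh122, sh200,
      sh201, sh202, sh210, sh211, sh212, sh220, sh221, sh222, sg_apply] <;> simp

theorem c02 : cr (sg K (2, 1, 2)) (sg K (0, 2, 1)) = -sg K (2, 1, 1) := by
  refine ext27 fun k i j => ?_
  fin_cases k <;> fin_cases i <;> fin_cases j <;>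
    simp only [Fin.zero_eta, Fin.mk_one, Fin.reduceFinMk, cr, Pi.sub_apply, Pi.neg_apply, Pi.add_apply, sh000, sh001, sh002,
      sh010, sh011, sh012, sh020, sh021, sh022, sh100, sh101, sh102, sh110, sh111, sh112, sh120, sh121, sh122, sh200,
      sh201, sh202, sh210, sh211, sh212, sh220, sh221, sh222, sg_apply] <;> simp

theorem c03 : cr (sg K (2, 2, 2)) (sg K (0, 2, 1)) = -sg K (2, 2, 1) := by
  refine ext27 fun k i j => ?_
  fin_cases k <;> fin_cases i <;> fin_cases j <;>
    simp only [Fin.zero_eta, Fin.mk_one, Fin.reduceFinMk, cr, Pi.sub_apply, Pi.neg_apply, Pi.add_apply, sh000, sh001, sh002,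
      sh010, sh011, sh012, sh020, sh021, sh022, sh100, sh101, sh102, sh110, sh111, sh112, sh120, sh121, sh122, sh200,
      sh201, sh202, sh210, sh211, sh212, sh220, sh221, sh222, sg_apply] <;> simp

theorem c04 : cr (sg K (0, 1, 0)) (sg K (0, 2, 1)) = sg K (0, 2, 0) := by
  refine ext27 fun k i j => ?_
  fin_cases k <;> fin_cases i <;> fin_cases j <;>
    simp only [Fin.zero_eta, Fin.mk_one, Fin.reduceFinMk, cr, Pi.sub_apply, Pi.neg_apply, Pi.add_apply, sh000, sh001, sh002,
      sh010, sh011, sh012, sh020, sh021, sh022, sh100, sh101, sh102, sh110, sh111, sh112, sh120, sh121, sh122, sh200,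
      sh201, sh202, sh210, sh211, sh212, sh220, sh221, sh222, sg_apply] <;> simp

theorem c05 : cr (sg K (0, 1, 0)) (sg K (2, 0, 1)) = -sg K (2, 0, 0) := by
  refine ext27 fun k i j => ?_
  fin_cases k <;> fin_cases i <;> fin_cases j <;>
    simp only [Fin.zero_eta, Fin.mk_one, Fin.reduceFinMk, cr, Pi.sub_apply, Pi.neg_apply, Pi.add_apply, sh000, sh001, sh002,
      sh010, sh011, sh012, sh020, sh021, sh022, sh100, sh101, sh102, sh110, sh111, sh112, sh120, sh121, sh122, sh200,
      sh201, sh202, sh210, sh211, sh212, sh220, sh221, sh222, sg_apply] <;> simp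

theorem c06 : cr (sg K (0, 1, 0)) (sg K (2, 1, 1)) = -sg K (2, 1, 0) := by
  refine ext27 fun k i j => ?_
  fin_cases k <;> fin_cases i <;> fin_cases j <;>
    simp only [Fin.zero_eta, Fin.mk_one, Fin.reduceFinMk, cr, Pi.sub_apply, Pi.neg_apply, Pi.add_apply, sh000, sh001, sh002,
      sh010, sh011, sh012, sh020, sh021, sh022, sh100, sh101, sh102, sh110, sh111, sh112, sh120, sh121, sh122, sh200,
      sh201, sh202, sh210, sh211, sh212, sh220, sh221, sh222, sg_apply] <;> simp

theorem c07 : cr (sg K (0, 1, 0)) (sg K (2, 2, 1)) = -sg K (2, 2, 0) := by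
  refine ext27 fun k i j => ?_
  fin_cases k <;> fin_cases i <;> fin_cases j <;>
    simp only [Fin.zero_eta, Fin.mk_one, Fin.reduceFinMk, cr, Pi.sub_apply, Pi.neg_apply, Pi.add_apply, sh000, sh001, sh002,
      sh010, sh011, sh012, sh020, sh021, sh022, sh100, sh101, sh102, sh110, sh111, sh112, sh120, sh121, sh122, sh200,
      sh201, sh202, sh210, sh211, sh212, sh220, sh221, sh222, sg_apply] <;> simp

theorem c08 : cr (sg K (2, 2, 2)) (sg K (2, 1, 1)) = sg K (1, 0, 0) := by
  refine ext27 fun k i j => ?_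
  fin_cases k <;> fin_cases i <;> fin_cases j <;>
    simp only [Fin.zero_eta, Fin.mk_one, Fin.reduceFinMk, cr, Pi.sub_apply, Pi.neg_apply, Pi.add_apply, sh000, sh001, sh002,
      sh010, sh011, sh012, sh020, sh021, sh022, sh100, sh101, sh102, sh110, sh111, sh112, sh120, sh121, sh122, sh200,
      sh201, sh202, sh210, sh211, sh212, sh220, sh221, sh222, sg_apply] <;> simp

theorem c09 : cr (sg K (2, 0, 2)) (sg K (2, 2, 1)) = sg K (1, 0, 1) := by
  refine ext27 fun k i j => ?_
  fin_cases k <;> fin_cases i <;> fin_cases j <;>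
    simp only [Fin.zero_eta, Fin.mk_one, Fin.reduceFinMk, cr, Pi.sub_apply, Pi.neg_apply, Pi.add_apply, sh000, sh001, sh002,
      sh010, sh011, sh012, sh020, sh021, sh022, sh100, sh101, sh102, sh110, sh111, sh112, sh120, sh121, sh122, sh200,
      sh201, sh202, sh210, sh211, sh212, sh220, sh221, sh222, sg_apply] <;> simp

theorem c10 : cr (sg K (2, 1, 2)) (sg K (2, 0, 1)) = sg K (1, 0, 2) := by
  refine ext27 fun k i j => ?_
  fin_cases k <;> fin_cases i <;> fin_cases j <;>
    simp only [Fin.zero_eta, Fin.mk_one, Fin.reduceFinMk, cr, Pi.sub_apply, Pi.neg_apply, Pi.add_apply, sh000, sh001, sh002,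
      sh010, sh011, sh012, sh020, sh021, sh022, sh100, sh101, sh102, sh110, sh111, sh112, sh120, sh121, sh122, sh200,
      sh201, sh202, sh210, sh211, sh212, sh220, sh221, sh222, sg_apply] <;> simp

theorem c11 : cr (sg K (2, 1, 2)) (sg K (2, 2, 0)) = sg K (1, 1, 0) := by
  refine ext27 fun k i j => ?_
  fin_cases k <;> fin_cases i <;> fin_cases j <;>
    simp only [Fin.zero_eta, Fin.mk_one, Fin.reduceFinMk, cr, Pi.sub_apply, Pi.neg_apply, Pi.add_apply, sh000, sh001, sh002,
      sh010, sh011, sh012, sh020, sh021, sh022, sh100, sh101, sh102, sh110, sh111, sh112, sh120, sh121, sh122, sh200,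
      sh201, sh202, sh210, sh211, sh212, sh220, sh221, sh222, sg_apply] <;> simp

theorem c12 : cr (sg K (2, 2, 2)) (sg K (2, 0, 0)) = sg K (1, 1, 1) := by
  refine ext27 fun k i j => ?_
  fin_cases k <;> fin_cases i <;> fin_cases j <;>
    simp only [Fin.zero_eta, Fin.mk_one, Fin.reduceFinMk, cr, Pi.sub_apply, Pi.neg_apply, Pi.add_apply, sh000, sh001, sh002,
      sh010, sh011, sh012, sh020, sh021, sh022, sh100, sh101, sh102, sh110, sh111, sh112, sh120, sh121, sh122, sh200,
      sh201, sh202, sh210, sh211, sh212, sh220, sh221, sh222, sg_apply] <;> simp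

theorem c13 : cr (sg K (2, 0, 2)) (sg K (2, 1, 0)) = sg K (1, 1, 2) := by
  refine ext27 fun k i j => ?_
  fin_cases k <;> fin_cases i <;> fin_cases j <;>
    simp only [Fin.zero_eta, Fin.mk_one, Fin.reduceFinMk, cr, Pi.sub_apply, Pi.neg_apply, Pi.add_apply, sh000, sh001, sh002,
      sh010, sh011, sh012, sh020, sh021, sh022, sh100, sh101, sh102, sh110, sh111, sh112, sh120, sh121, sh122, sh200,
      sh201, sh202, sh210, sh211, sh212, sh220, sh221, sh222, sg_apply] <;> simp

theorem c14 : cr (sg K (2, 0, 2)) (sg K (1, 0, 0)) = -sg K (0, 0, 2) := by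
  refine ext27 fun k i j => ?_
  fin_cases k <;> fin_cases i <;> fin_cases j <;>
    simp only [Fin.zero_eta, Fin.mk_one, Fin.reduceFinMk, cr, Pi.sub_apply, Pi.neg_apply, Pi.add_apply, sh000, sh001, sh002,
      sh010, sh011, sh012, sh020, sh021, sh022, sh100, sh101, sh102, sh110, sh111, sh112, sh120, sh121, sh122, sh200,
      sh201, sh202, sh210, sh211, sh212, sh220, sh221, sh222, sg_apply] <;> simp

theorem c15 : cr (sg K (2, 0, 2)) (sg K (1, 1, 0)) = -sg K (0, 1, 2) := by
  refine ext27 fun k i j => ?_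
  fin_cases k <;> fin_cases i <;> fin_cases j <;>
    simp only [Fin.zero_eta, Fin.mk_one, Fin.reduceFinMk, cr, Pi.sub_apply, Pi.neg_apply, Pi.add_apply, sh000, sh001, sh002,
      sh010, sh011, sh012, sh020, sh021, sh022, sh100, sh101, sh102, sh110, sh111, sh112, sh120, sh121, sh122, sh200,
      sh201, sh202, sh210, sh211, sh212, sh220, sh221, sh222, sg_apply] <;> simp


theorem d1 : cr (sg K (0, 0, 1)) (sg K (0, 2, 1)) = 0 := by
  refine ext27 fun k i j => ?_
  fin_cases k <;> fin_cases i <;> fin_cases j <;>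
    simp only [Fin.zero_eta, Fin.mk_one, Fin.reduceFinMk, cr, Pi.sub_apply, Pi.neg_apply, Pi.add_apply, sh000, sh001, sh002,
      sh010, sh011, sh012, sh020, sh021, sh022, sh100, sh101, sh102, sh110, sh111, sh112, sh120, sh121, sh122, sh200,
      sh201, sh202, sh210, sh211, sh212, sh220, sh221, sh222, sg_apply] <;> simp

theorem d2 : cr (sg K (1, 2, 0)) (sg K (0, 2, 1)) = 0 := by
  refine ext27 fun k i j => ?_
  fin_cases k <;> fin_cases i <;> fin_cases j <;>
    simp only [Fin.zero_eta, Fin.mk_one, Fin.reduceFinMk, cr, Pi.sub_apply, Pi.neg_apply, Pi.add_apply, sh000, sh001, sh002,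
      sh010, sh011, sh012, sh020, sh021, sh022, sh100, sh101, sh102, sh110, sh111, sh112, sh120, sh121, sh122, sh200,
      sh201, sh202, sh210, sh211, sh212, sh220, sh221, sh222, sg_apply] <;> simp

theorem d3 : cr (sg K (1, 2, 1)) (sg K (0, 2, 1)) = 0 := by
  refine ext27 fun k i j => ?_
  fin_cases k <;> fin_cases i <;> fin_cases j <;>
    simp only [Fin.zero_eta, Fin.mk_one, Fin.reduceFinMk, cr, Pi.sub_apply, Pi.neg_apply, Pi.add_apply, sh000, sh001, sh002,
      sh010, sh011, sh012, sh020, sh021, sh022, sh100, sh101, sh102, sh110, sh111, sh112, sh120, sh121, sh122, sh200,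
      sh201, sh202, sh210, sh211, sh212, sh220, sh221, sh222, sg_apply] <;> simp

theorem d4 : cr (sg K (1, 2, 2)) (sg K (0, 2, 1)) = 0 := by
  refine ext27 fun k i j => ?_
  fin_cases k <;> fin_cases i <;> fin_cases j <;>
    simp only [Fin.zero_eta, Fin.mk_one, Fin.reduceFinMk, cr, Pi.sub_apply, Pi.neg_apply, Pi.add_apply, sh000, sh001, sh002,
      sh010, sh011, sh012, sh020, sh021, sh022, sh100, sh101, sh102, sh110, sh111, sh112, sh120, sh121, sh122, sh200,
      sh201, sh202, sh210, sh211, sh212, sh220, sh221, sh222, sg_apply] <;> simp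


/-- the square of `sg (0, 0, 2) + sg (0, 2, 0)` -/
theorem sh_two : sh (sg K (0, 0, 2) + sg K (0, 2, 0)) = -sg K (0, 1, 1) := by
  refine ext27 fun k i j => ?_
  fin_cases k <;> fin_cases i <;> fin_cases j <;>
    simp only [Fin.zero_eta, Fin.mk_one, Fin.reduceFinMk, Pi.neg_apply, Pi.add_apply, sh000, sh001, sh002,
      sh010, sh011, sh012, sh020, sh021, sh022, sh100, sh101, sh102, sh110, sh111, sh112, sh120, sh121, sh122, sh200,
      sh201, sh202, sh210, sh211, sh212, sh220, sh221, sh222, sg_apply] <;> simp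

theorem inJ_sg {i : I27} (hi : pl i = true) : InJ (sg K i) := by
  intro j hj
  rw [sg_apply, if_neg]
  rintro rfl
  rw [hi] at hj
  exact absurd hj (by decide)

/-- vectors killed by four operators -/
theorem eq_of_killed {w : I27 → K} (hw : ∀ i, pl i = true → w i = 0) (h1 : cr (sg K (0, 0, 1)) w = 0)
    (h2 : cr (sg K (1, 2, 0)) w = 0) (h3 : cr (sg K (1, 2, 1)) w = 0) (h4 : cr (sg K (1, 2, 2)) w = 0) :
    w = w (0, 2, 1) • sg K (0, 2, 1) := by
  have a1 := congrFun h1 (0, 0, 2)
  have a2 := congrFun h1 (0, 2, 1)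
  have a3 := congrFun h2 (0, 2, 0)
  have a4 := congrFun h3 (0, 2, 0)
  have a5 := congrFun h4 (0, 2, 0)
  have a6 := congrFun h2 (0, 2, 1)
  have a7 := congrFun h3 (0, 2, 1)
  have a8 := congrFun h4 (0, 2, 1)
  have a9 := congrFun h2 (1, 0, 0)
  have b1 := congrFun h2 (2, 1, 0)
  have b2 := congrFun h2 (2, 1, 1)
  have b3 := congrFun h2 (2, 2, 0)
  have b4 := congrFun h2 (2, 2, 1)
  have b5 := congrFun h3 (2, 2, 0)
  have b6 := congrFun h3 (2, 2, 1)
  simp only [cr, Pi.sub_apply, Pi.add_apply, Pi.zero_apply, sh002, sh021, sh020, sh100, sh210, sh211, sh220, sh221,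
    sg_apply] at a1 a2 a3 a4 a5 a6 a7 a8 a9 b1 b2 b3 b4 b5 b6
  simp at a1 a2 a3 a4 a5 a6 a7 a8 a9 b1 b2 b3 b4 b5 b6
  have za1 : w (0, 1, 2) = 0 := by linear_combination a1
  have za2 : w (0, 2, 0) = 0 := by linear_combination a2
  have za3 : w (2, 0, 0) = 0 := by linear_combination -a3
  have za4 : w (2, 1, 0) = 0 := by linear_combination -a4
  have za5 : w (2, 2, 0) = 0 := by linear_combination -a5
  have za6 : w (2, 0, 1) = 0 := by linear_combination -a6
  have za7 : w (2, 1, 1) = 0 := by linear_combination -a7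
  have za8 : w (2, 2, 1) = 0 := by linear_combination -a8
  have za9 : w (0, 0, 2) = 0 := by linear_combination -a9
  have zb1 : w (1, 1, 2) = 0 := by linear_combination b1
  have zb2 : w (1, 0, 2) = 0 := by linear_combination -b2
  have zb3 : w (1, 1, 1) = 0 := by linear_combination -b3
  have zb4 : w (1, 0, 1) = 0 := by linear_combination b4
  have zb5 : w (1, 1, 0) = 0 := by linear_combination b5
  have zb6 : w (1, 0, 0) = 0 := by linear_combination -b6
  refine ext27 fun k i j => ?_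
  rw [Pi.smul_apply, sg_apply]
  fin_cases k <;> fin_cases i <;> fin_cases j <;> simp <;> first | assumption | exact hw _ (by decide)

theorem neg_cases : ∀ i : I27, pl i = false → i = (0, 0, 2) ∨ i = (0, 1, 2) ∨ i = (0, 2, 0) ∨ i = (0, 2, 1) ∨
    i = (1, 0, 0) ∨ i = (1, 0, 1) ∨ i = (1, 0, 2) ∨ i = (1, 1, 0) ∨ i = (1, 1, 1) ∨ i = (1, 1, 2) ∨ i = (2, 0, 0) ∨
    i = (2, 0, 1) ∨ i = (2, 1, 0) ∨ i = (2, 1, 1) ∨ i = (2, 2, 0) ∨ i = (2, 2, 1) := by decide +kernel

variable (hρ : IsJ ρ) (h2 : (2 : K) ≠ 0) (ht : IsT ρ t)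

/-- **the kernel of `Ph`** -/
theorem ker_Ph (hi : Function.Injective ρ) {g : ↥(Subgroup.centralizer ({t} : Set ↥(chevF4.group K)))}
    (hg : Ph hρ h2 ht g = 1) : (g : ↥(chevF4.group K)) = 1 ∨ (g : ↥(chevF4.group K)) = t := by
  set k := JK ρ (g : ↥(chevF4.group K)) with hk
  have fx : ∀ {x : I27 → K}, InJ x → k x = x := fun hx => fix_of_Ph hρ h2 ht hg hx
  have kc : ∀ {x : I27 → K} (_ : InJ x) (y : I27 → K), k (cr x y) = cr x (k y) := by
    intro x hx y
    rw [hk, ← cr_inv hρ h2, ← hk, fx hx]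
  set w := k (sg K (0, 2, 1)) with hw
  have w1 : ∀ i, pl i = true → w i = 0 := by
    rw [← ht.neg_iff h2, hw, hk, ← JK_comm (comm_of_mem g.2)]
    have : JK ρ t (sg K (0, 2, 1)) = -sg K (0, 2, 1) := by
      rw [ht.neg_iff h2]
      intro i hi
      rw [sg_apply, if_neg]
      rintro rfl
      exact absurd hi (by decide)
    rw [this, map_neg]
  have w2 : w = w (0, 2, 1) • sg K (0, 2, 1) := by
    apply eq_of_killed w1
    · rw [hw, ← kc (inJ_sg (by decide)), d1, map_zero]
    · rw [hw, ← kc (inJ_sg (by decide)), d2, map_zero]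
    · rw [hw, ← kc (inJ_sg (by decide)), d3, map_zero]
    · rw [hw, ← kc (inJ_sg (by decide)), d4, map_zero]
  set l := w (0, 2, 1) with hl
  let P : (I27 → K) → Prop := fun y => k y = l • y
  have P0 : P (sg K (0, 2, 1)) := w2
  have Pc : ∀ {i : I27} (_ : pl i = true) {y : I27 → K}, P y → P (cr (sg K i) y) := by
    intro i hi y hy
    show k _ = _
    rw [kc (inJ_sg hi), hy, cr_smul_right]
  have Pn : ∀ {y : I27 → K}, P (-y) → P y := by
    intro y hy
    have h1 : k (-y) = l • (-y) := hy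
    rw [map_neg, smul_neg] at h1
    exact neg_injective h1
  have p01 : P (sg K (2, 0, 1)) := Pn (by rw [← c01]; exact Pc (by decide) P0)
  have p02 : P (sg K (2, 1, 1)) := Pn (by rw [← c02]; exact Pc (by decide) P0)
  have p03 : P (sg K (2, 2, 1)) := Pn (by rw [← c03]; exact Pc (by decide) P0)
  have p04 : P (sg K (0, 2, 0)) := by rw [← c04]; exact Pc (by decide) P0
  have p05 : P (sg K (2, 0, 0)) := Pn (by rw [← c05]; exact Pc (by decide) p01)
  have p06 : P (sg K (2, 1, 0)) := Pn (by rw [← c06]; exact Pc (by decide) p02)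
  have p07 : P (sg K (2, 2, 0)) := Pn (by rw [← c07]; exact Pc (by decide) p03)
  have p08 : P (sg K (1, 0, 0)) := by rw [← c08]; exact Pc (by decide) p02
  have p09 : P (sg K (1, 0, 1)) := by rw [← c09]; exact Pc (by decide) p03
  have p10 : P (sg K (1, 0, 2)) := by rw [← c10]; exact Pc (by decide) p01
  have p11 : P (sg K (1, 1, 0)) := by rw [← c11]; exact Pc (by decide) p07
  have p12 : P (sg K (1, 1, 1)) := by rw [← c12]; exact Pc (by decide) p05
  have p13 : P (sg K (1, 1, 2)) := by rw [← c13]; exact Pc (by decide) p06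
  have p14 : P (sg K (0, 0, 2)) := Pn (by rw [← c14]; exact Pc (by decide) p08)
  have p15 : P (sg K (0, 1, 2)) := Pn (by rw [← c15]; exact Pc (by decide) p11)
  have pall : ∀ i, k (sg K i) = if pl i = true then sg K i else l • sg K i := by
    intro i
    by_cases hi : pl i = true
    · rw [if_pos hi, fx (inJ_sg hi)]
    · rw [if_neg hi]
      rcases neg_cases i (by simpa using hi) with h | h | h | h | h | h | h | h | h | h | h | h | h | h | h | h <;>
        rw [h]
      · exact p14
      · exact p15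
      · exact p04
      · exact P0
      · exact p08
      · exact p09
      · exact p10
      · exact p11
      · exact p12
      · exact p13
      · exact p05
      · exact p01
      · exact p06
      · exact p02
      · exact p07
      · exact p03
  have l2 : l = 1 ∨ l = -1 := by
    have h1 := Inv.sh_inv hρ h2 (g : ↥(chevF4.group K)) (sg K (0, 0, 2) + sg K (0, 2, 0))
    have h3 : k (sg K (0, 0, 2) + sg K (0, 2, 0)) = l • (sg K (0, 0, 2) + sg K (0, 2, 0)) := by
      rw [map_add, p14, p04, smul_add]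
    rw [← hk, h3, Jord.sh_smul, sh_two, map_neg, fx (inJ_sg (by decide)), smul_neg] at h1
    have h4 := congrFun h1 (0, 1, 1)
    simpa [sg_apply] using h4
  have hmat : ∀ {a b : ↥(chevF4.group K)}, (∀ i, JK ρ a (sg K i) = JK ρ b (sg K i)) → a = b := by
    intro a b hab
    apply hi
    apply Units.ext
    ext i j
    have := congrFun (hab j) i
    rw [Inv.JK_apply, Inv.JK_apply, sg, Matrix.mulVec_single_one, Matrix.mulVec_single_one] at this
    exact this
  rcases l2 with h1 | h1
  · left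
    apply hmat
    intro i
    rw [← hk, pall i, h1, one_smul, ite_self, map_one, Module.End.one_apply]
  · right
    apply hmat
    intro i
    rw [← hk, pall i, h1, neg_one_smul]
    split_ifs with hi'
    · exact ((ht.fix_iff h2 _).2 (inJ_sg hi')).symm
    · symm
      rw [ht.neg_iff h2]
      intro j hj
      rw [sg_apply, if_neg]
      rintro rfl
      exact hi' hj

end Cfsg.Agent.H885.Pw.JB
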