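import Cfsg.Agent.H885.Pw.JC
import Cfsg.Agent.H952.F4.TorDiag
import Cfsg.Agent.H557.InvF4

/-!
helper885 (S2465, `F4(3)`): the toral involution `t1` of type `B4`.
-/

set_option autoImplicit false
set_option linter.unusedSectionVars false

namespace Cfsg.Agent.H885.Pw.JB

open Cfsg Cfsg.Lie Module Matrix
open Cfsg.Agent.ChevalleyStructure.E6Min.Tables Cfsg.Agent.ChevalleyStructure.E6Min.Basic
open Cfsg.Agent.H952.F4 Cfsg.Agent.H952.F4.Jord
open Cfsg.Agent.LieClassical Cfsg.Agent.LieClassical.OrthForms Cfsg.Agent.LieClassical.OrthCore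
open Cfsg.Agent.H557.InvF4 Cfsg.Agent.H557.SignTorus Cfsg.Agent.H557.OrbF4 Cfsg.Agent.OddHalf.NI.ModelChev
open Cfsg.Agent.H815.F4Tor
open Cfsg.Agent.Tits.Roots Cfsg.Agent.Nodes.BNOf Cfsg.Agent.Nodes.RGDChev Cfsg.Agent.KFacts.RgdChevCoord

universe u

/-- the involution of type `B₄` -/
noncomputable abbrev t1 (K : Type u) [Field K] : ↥(chevF4.group K) :=
  th Cfsg.Agent.Nodes.KindF.isType (Cfsg.Agent.H557.SignTorus.sg K 4 n_TabB4)

theorem sg_eq (K : Type u) [Field K] : Cfsg.Agent.H557.SignTorus.sg K 4 n_TabB4 = Pi.mulSingle 1 (-1) := by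
  funext k
  unfold Cfsg.Agent.H557.SignTorus.sg n_TabB4
  have h0 : Nat.testBit 2 0 = false := by decide
  have h1 : Nat.testBit 2 1 = true := by decide
  have h2 : Nat.testBit 2 2 = false := by decide
  have h3 : Nat.testBit 2 3 = false := by decide
  fin_cases k <;> simp [Pi.mulSingle_apply, h0, h1, h2, h3]

theorem wx_par : ∀ i : I27, pl i = true ↔ Even (wx 1 i) := by decide +kernel

theorem isT_t1 {K : Type u} [Field K] {ρ : ↥(chevF4.group K) →* GL I27 K} (hρ : IsJ ρ) : IsT ρ (t1 K) := by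
  intro x i
  have h1 : t1 K = Cfsg.Agent.KFacts.RgdChevCoord.hc typeF4 1 (-1 : K) := by
    unfold t1
    rw [sg_eq]
    show ((thT _ _ : ↥(TT chevF4 K)) : ↥(chevF4.group K)) = _
    rw [thT_mulSingle, coe_hcH]
    simp
  rw [Inv.JK_apply, h1, rho_hc hρ, hY_eq 1 (neg_ne_zero.2 one_ne_zero), Matrix.mulVec_diagonal]
  by_cases h : pl i = true
  · have h3 := (wx_par i).1 h
    rw [if_pos h]
    show (-1 : K) ^ (wx 1 i) * x i = x i
    rw [h3.neg_one_zpow, one_mul]
  · have h3 : Odd (wx 1 i) := by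
      rw [← Int.not_even_iff_odd, ← wx_par i]
      exact h
    rw [if_neg h]
    show (-1 : K) ^ (wx 1 i) * x i = -x i
    rw [h3.neg_one_zpow, neg_one_mul]

end Cfsg.Agent.H885.Pw.JB
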