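import Cfsg.Agent.H885.Pw.JD
import Cfsg.Agent.S0286
import Cfsg.Agent.LieClassical.OrthSimple
import Cfsg.Agent.LieClassical.OrthFinite

/-!
helper885 (S2465, `F4(3)`): the image of `Ph` contains `E Q` (`= Ω₉(3)`).
-/

set_option autoImplicit false
set_option linter.unusedSectionVars false

namespace Cfsg.Agent.H885.Pw.JB

open Cfsg Cfsg.Lie Module Matrix
open Cfsg.Agent.ChevalleyStructure.E6Min.Tables Cfsg.Agent.ChevalleyStructure.E6Min.Basic
open Cfsg.Agent.H952.F4 Cfsg.Agent.H952.F4.Jord
open Cfsg.Agent.LieClassical Cfsg.Agent.LieClassical.OrthForms Cfsg.Agent.LieClassical.OrthCore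
  Cfsg.Agent.LieClassical.OrthTrans Cfsg.Agent.LieClassical.OrthFinite Cfsg.Agent.LieClassical.OrthSimple
open Cfsg.Agent.H557.InvF4 Cfsg.Agent.H557.SignTorus Cfsg.Agent.H557.OrbF4 Cfsg.Agent.OddHalf.NI.ModelChev
open Cfsg.Agent.H815.F4Tor Cfsg.Agent.H557.SubTab Cfsg.Agent.H557.InvClass Cfsg.Agent.H557.ToralTypes
open Cfsg.Agent.Tits.Roots Cfsg.Agent.Nodes.BNOf Cfsg.Agent.Nodes.RGDChev Cfsg.Agent.KFacts.RgdChevCoord

universe u

section Abs

variable {F V : Type*} [Field F] [Finite F] [AddCommGroup V] [Module F V] [Finite V] {Q : QuadraticForm F V}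

/-- a subgroup `H` of a finite group has a normal subgroup inside of index at most `(index H)!` -/
theorem core_index {G : Type*} [Group G] [Finite G] (H : Subgroup G) (h : H.index ≤ 4) : H.normalCore.index ≤ 24 := by
  classical
  have e1 : H.normalCore = (MulAction.toPermHom G (G ⧸ H)).ker := Subgroup.normalCore_eq_ker H
  rw [e1, Subgroup.index_ker]
  refine (Subgroup.card_le_card_group _).trans ?_
  rw [Nat.card_perm]
  exact (Nat.factorial_le (show Nat.card (G ⧸ H) ≤ 4 from h)).trans (by decide)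

/-- a subgroup of index at most 4 of `O Q` contains `E Q` -/
theorem E_le_of_index (hF : Nat.card F = 3) (hG : Good Q) {R : Subgroup (V ≃ₗ[F] V)} (hR : R ≤ O Q)
    (hc : Nat.card (O Q) ≤ 4 * Nat.card R) (hE : 72 < Nat.card (E Q)) : E Q ≤ R := by
  classical
  have : Finite (V ≃ₗ[F] V) := Finite.of_injective (fun g : V ≃ₗ[F] V => (g : V → V)) DFunLike.coe_injective
  have h1 : Nat.card R * R.relIndex (O Q) = Nat.card (O Q) := by
    rw [← Subgroup.relIndex_bot_left, Subgroup.relIndex_mul_relIndex _ _ _ bot_le hR, Subgroup.relIndex_bot_left]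
  have h2 : R.relIndex (O Q) ≤ 4 := by
    have h3 : 0 < Nat.card R := Nat.card_pos
    by_contra h4
    push Not at h4
    have : Nat.card R * 5 ≤ Nat.card R * R.relIndex (O Q) := Nat.mul_le_mul_left _ h4
    omega
  have h0 : R.relIndex (O Q) ≠ 0 := by
    intro h
    rw [h, mul_zero] at h1
    exact (Nat.card_pos (α := ↥(O Q))).ne h1
  have h3 : (R.subgroupOf (E Q)).index ≤ 4 := (Subgroup.relIndex_le_of_le_right (H := R) E_le_O h0).trans h2
  have h4 : Nat.card (E Q) ≤ Nat.card (R.subgroupOf (E Q)).normalCore * 24 := by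
    rw [← Subgroup.card_mul_index (R.subgroupOf (E Q)).normalCore]
    exact Nat.mul_le_mul_left _ (core_index _ h3)
  have hNn : (R.subgroupOf (E Q)).normalCore.Normal := Subgroup.normalCore_normal _
  have hNl : (R.subgroupOf (E Q)).normalCore ≤ R.subgroupOf (E Q) := Subgroup.normalCore_le _
  generalize (R.subgroupOf (E Q)).normalCore = N at h4 hNn hNl
  have ha : N.map (E Q).subtype ≤ E Q := by
    rintro _ ⟨n, -, rfl⟩
    exact n.2
  have hb : ∀ g ∈ E Q, ∀ n ∈ N.map (E Q).subtype, g * n * g⁻¹ ∈ N.map (E Q).subtype := by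
    rintro g hg _ ⟨n, hn, rfl⟩
    exact ⟨⟨g, hg⟩ * n * ⟨g, hg⟩⁻¹, hNn.conj_mem n hn ⟨g, hg⟩, rfl⟩
  rcases good_normal_dichotomy hG ha hb with h5 | h5
  · exfalso
    have h6 : Nat.card N ≤ 3 := by
      rw [← hF]
      choose! c hc' using h5
      refine Nat.card_le_card_of_injective (fun n : N => c ((n : ↥(E Q)) : V ≃ₗ[F] V)) ?_
      intro a b hab
      apply Subtype.ext
      apply Subtype.ext
      apply LinearEquiv.ext
      intro v
      exact (hc' _ ⟨a, a.2, rfl⟩ v).trans ((congrArg (fun t : F => t • v) hab).trans (hc' _ ⟨b, b.2, rfl⟩ v).symm)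
    omega
  · intro g hg
    rw [← h5] at hg
    obtain ⟨n, hn, rfl⟩ := hg
    exact hNl hn

end Abs

section

variable {K : Type u} [Field K]

theorem two_ne [Finite K] (hK : Nat.card K = 3) : (2 : K) ≠ 0 := by
  intro h
  have : Fintype K := Fintype.ofFinite K
  have h1 : ((Fintype.card K : ℕ) : K) = 0 := Nat.cast_card_eq_zero K
  rw [← Nat.card_eq_fintype_card, hK] at h1
  have h2 : (1 : K) = 0 := by
    have : (3 : K) - 2 = 0 := by
      rw [h, sub_zero]
      exact_mod_cast h1
    norm_num at this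
  exact one_ne_zero h2

theorem card_t1 [Finite K] (hK : Nat.card K = 3) :
    Nat.card (Subgroup.centralizer ({t1 K} : Set ↥(chevF4.group K))) = 131569513308979200 := by
  have : Fintype K := Fintype.ofFinite K
  have ho : Odd (Fintype.card K) := by
    rw [← Nat.card_eq_fintype_card, hK]
    decide
  obtain ⟨p, hpp, hpc, hp2⟩ := exists_char K ho
  have : Fact p.Prime := ⟨hpp⟩
  have hW : Finite (CoxeterMatrix.F₄).Group := Nat.finite_of_card_ne_zero (by rw [cardW]; norm_num)
  have hc1 : Nat.card (chevF4.diagonalSubgroup K) = (Nat.card K - 1) ^ 4 := by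
    have := Cfsg.Agent.S1035.result (F := K) rfl (chevF4, 1) (by simp)
    rw [Nat.card_eq_fintype_card (α := K)]
    rwa [one_mul] at this
  have hT : Nat.card ↥(TT chevF4 K) = (Nat.card K - 1) ^ 4 := by
    rw [← hc1]
    exact Nat.card_congr (Subgroup.subgroupOfEquivOfLe
      (Cfsg.Agent.ChevalleyStructure.Elts.diagonal_le_group (Nodes.KindF.isType).inList K)).toEquiv
  have h := D_TabB4.card_cent Cfsg.Agent.H557.OrbF4.hcm (K := K) p (two_ne hK) inj_F4 hT
  have hm : Cfsg.Agent.H557.TabB4.tab.m = 16 := by decide +kernel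
  rw [hm, hK] at h
  exact h.trans (by norm_num)

theorem card_O [Finite K] (hK : Nat.card K = 3) : Nat.card (O (oddForm 4 K)) = 2 * 131569513308979200 := by
  have : Fintype K := Fintype.ofFinite K
  have h1 : Fintype.card K = 3 := by rw [← Nat.card_eq_fintype_card, hK]
  have h := Cfsg.Agent.S0286.result h1 (by decide) 4
  rw [← coe_oddForm, Nat.card_congr (isometryEquiv (oddForm 4 K)).toEquiv] at h
  rw [h]
  simp [Finset.prod_range_succ]

theorem good [Finite K] (hK : Nat.card K = 3) : Good (oddForm 4 K) :=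
  good_of_finite (nondeg_oddForm 4 K (two_ne hK)) (by simp)

theorem card_E [Finite K] (hK : Nat.card K = 3) : 72 < Nat.card (E (oddForm 4 K)) := by
  classical
  have : Fintype K := Fintype.ofFinite K
  have : Finite (VV K ≃ₗ[K] VV K) :=
    Finite.of_injective (fun g : VV K ≃ₗ[K] VV K => (g : VV K → VV K)) DFunLike.coe_injective
  let f : (Fin 4 → K) → VV K := fun a => Sum.elim 0 (Sum.elim a 0)
  have hf : ∀ a, (oddForm 4 K) (f a) = 0 := by
    intro a
    rw [coe_oddForm, quadFormOdd_apply]
    simp [f]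
  have hfi : Function.Injective f := by
    intro a b hab
    funext i
    exact congrFun hab (.inr (.inl i))
  have h0 : f 0 = 0 := by
    funext i
    rcases i with i | i | i <;> rfl
  set a0 : Fin 4 → K := 1 with ha0
  have hne : ∀ a : Fin 4 → K, a ≠ 0 → f a ≠ 0 := by
    intro a ha h
    exact ha (hfi (h.trans h0.symm))
  have key : ∀ a : {a : Fin 4 → K // a ≠ 0}, ∃ g : ↥(E (oddForm 4 K)), (g : VV K ≃ₗ[K] VV K) (f a0) = f a := by
    intro a
    obtain ⟨g, hg, h⟩ := (good hK).trans_sing (hf a0) (hf a) (hne _ (by rw [ha0]; exact one_ne_zero)) (hne _ a.2)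
    exact ⟨⟨g, hg⟩, h⟩
  choose g hg using key
  have hgi : Function.Injective g := by
    intro a b hab
    apply Subtype.ext
    apply hfi
    rw [← hg a, ← hg b, hab]
  have h1 := Nat.card_le_card_of_injective g hgi
  have h2 : Nat.card {a : Fin 4 → K // a ≠ 0} = 80 := by
    rw [Nat.card_eq_fintype_card, Fintype.card_subtype_compl, Fintype.card_subtype_eq, Fintype.card_fun,
      ← Nat.card_eq_fintype_card, hK]
    simp
  omega

variable {ρ : ↥(chevF4.group K) →* GL I27 K}

/-- **the image of the centralizer of `t1` contains `E Q`** -/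
theorem E_le_range [Finite K] (hK : Nat.card K = 3) (hρ : IsJ ρ) (hi : Function.Injective ρ) :
    E (oddForm 4 K) ≤ (Ph hρ (two_ne hK) (isT_t1 hρ)).range := by
  classical
  have : Fintype K := Fintype.ofFinite K
  have : Finite ↥(chevF4.group K) := inferInstance
  set P := Ph hρ (two_ne hK) (isT_t1 hρ) with hP
  have h1 : Nat.card P.ker ≤ 2 := by
    have h2 : ∀ x : P.ker, ((x : ↥(Subgroup.centralizer ({t1 K} : Set ↥(chevF4.group K)))) : ↥(chevF4.group K)) = 1 ∨
        ((x : ↥(Subgroup.centralizer ({t1 K} : Set ↥(chevF4.group K)))) : ↥(chevF4.group K)) = t1 K :=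
      fun x => ker_Ph hρ (two_ne hK) (isT_t1 hρ) hi x.2
    have h3 : Nat.card P.ker ≤ Nat.card Bool := by
      refine Nat.card_le_card_of_injective (fun x : P.ker =>
        decide (((x : ↥(Subgroup.centralizer ({t1 K} : Set ↥(chevF4.group K)))) : ↥(chevF4.group K)) = 1)) ?_
      intro a b hab
      apply Subtype.ext
      apply Subtype.ext
      simp only [decide_eq_decide] at hab
      rcases h2 a with ha | ha
      · rw [ha, hab.1 ha]
      · rcases h2 b with hb | hb
        · rw [hb, hab.2 hb]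
        · rw [ha, hb]
    simpa using h3
  have h2 : Nat.card P.range * Nat.card P.ker = 131569513308979200 := by
    rw [← card_t1 hK, ← Subgroup.card_mul_index P.ker, Subgroup.index_ker, mul_comm]
  refine E_le_of_index hK (good hK) ?_ ?_ (card_E hK)
  · rintro _ ⟨g, rfl⟩
    exact Ph_mem_O hρ (two_ne hK) (isT_t1 hρ) g
  · rw [card_O hK, ← h2]
    nlinarith

end

end Cfsg.Agent.H885.Pw.JB
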