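import Cfsg.Agent.H885.Pw.JF
import Cfsg.Agent.H510.OA.Chev

/-!
helper885 (S2465, `F4(3)`): totally singular lines of a large eigenspace.
-/

set_option autoImplicit false
set_option linter.unusedSectionVars false

namespace Cfsg.Agent.H885.Pw.JB

open Cfsg Cfsg.Lie Module Matrix
open Cfsg.Agent.LieClassical Cfsg.Agent.LieClassical.OrthForms Cfsg.Agent.LieClassical.OrthCore
  Cfsg.Agent.LieClassical.OrthTrans Cfsg.Agent.LieClassical.OrthFinite Cfsg.Agent.LieClassical.OrthSimple
open Cfsg.Agent.H885.BS.Orth Cfsg.Agent.H510.OA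

universe u

section Line

variable {F V : Type*} [Field F] [Finite F] {p : ℕ} [Fact p.Prime] [CharP F p] [AddCommGroup V] [Module F V]
  [FiniteDimensional F V] {Q : QuadraticForm F V}

/-- a `p`-element of `O Q` preserving a subspace `U` of dimension at least 5 stabilizes a totally singular line of `U`,
acting unipotently -/
theorem exists_line {u : V ≃ₗ[F] V} (hu : u ∈ O Q) {k : ℕ} (huk : u ^ p ^ k = 1) {U : Submodule F V}
    (hU : ∀ x ∈ U, u x ∈ U) (hd : 5 ≤ finrank F U) :
    ∃ v ∈ U, ∃ w ∈ U, TS Q v w ∧ LI F v w ∧ u v = v ∧ ∃ c : F, u w = w + c • v := by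
  set X : Subgroup (V ≃ₗ[F] V) := Subgroup.zpowers u with hX
  have hp : p.Prime := Fact.out
  have hXp : IsPGroup p X := by
    rintro ⟨_, m, rfl⟩
    refine ⟨k, Subtype.ext ?_⟩
    show (u ^ m) ^ p ^ k = 1
    rw [← zpow_natCast, ← _root_.zpow_mul, mul_comm, _root_.zpow_mul, zpow_natCast, huk, _root_.one_zpow]
  have hXO : X ≤ O Q := by rw [hX, Subgroup.zpowers_le]; exact hu
  have hfin : IsOfFinOrder u := isOfFinOrder_iff_pow_eq_one.2 ⟨p ^ k, pow_pos hp.pos _, huk⟩
  have hXU : ∀ x ∈ X, ∀ y ∈ U, x y ∈ U := by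
    intro x hx y hy
    obtain ⟨n, rfl⟩ := hfin.mem_powers_iff_mem_zpowers.2 hx
    have key : ∀ (n : ℕ) (y : V), y ∈ U → (u ^ n) y ∈ U := by
      intro n
      induction n with
      | zero => intro y hy; rw [pow_zero]; exact hy
      | succ n ih =>
        intro y hy
        rw [pow_succ]
        exact ih (u y) (hU y hy)
    exact key n y hy
  obtain ⟨v, hvU, hv0, hQv, hvf⟩ := exists_fix hXp hXO hXU (by omega)
  set S : Submodule F V := Submodule.span F {v} with hS
  set U' : Submodule F V := U ⊓ LinearMap.ker (QuadraticMap.polarBilin Q v) with hU'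
  have mU' : ∀ {x : V}, x ∈ U' ↔ x ∈ U ∧ QuadraticMap.polar Q v x = 0 := fun {x} => Iff.rfl
  have h1 : finrank F S = 1 := finrank_span_singleton hv0
  have h2 : 4 ≤ finrank F U' := by
    have e1 := LinearMap.finrank_range_add_finrank_ker (QuadraticMap.polarBilin Q v)
    have e2 : finrank F (LinearMap.range (QuadraticMap.polarBilin Q v)) ≤ 1 := by
      refine (Submodule.finrank_le _).trans ?_
      rw [finrank_self]
    have e3 := Submodule.finrank_sup_add_finrank_inf_eq U (LinearMap.ker (QuadraticMap.polarBilin Q v))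
    have e4 := Submodule.finrank_le (U ⊔ LinearMap.ker (QuadraticMap.polarBilin Q v))
    rw [← hU'] at e3
    omega
  have hvv : QuadraticMap.polar Q v v = 0 := polar_self_of_sing hQv
  obtain ⟨w, hwU, hwS, hQw, hwf⟩ := exists_rel (S := S) (U := U') hXp hXO (by
      rw [hS, Submodule.span_singleton_le_iff_mem]
      exact mU'.2 ⟨hvU, hvv⟩) (by
      intro x hx s hs
      obtain ⟨c, rfl⟩ := Submodule.mem_span_singleton.1 hs
      rw [map_smul, hvf x hx]
      exact hs) (by
      intro x hx y hy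
      refine mU'.2 ⟨hXU x hx y (mU'.1 hy).1, ?_⟩
      have := polar_map (hXO hx) v y
      rw [hvf x hx, (mU'.1 hy).2] at this
      exact this) (by
      intro y hy s hs
      obtain ⟨c, rfl⟩ := Submodule.mem_span_singleton.1 hs
      rw [Q_add, QuadraticMap.map_smul, hQv, QuadraticMap.polar_smul_right, QuadraticMap.polar_comm, (mU'.1 hy).2]
      simp) (by omega)
  refine ⟨v, hvU, w, (mU'.1 hwU).1, ⟨hQv, hQw, (mU'.1 hwU).2⟩, LI.of_not_mem hv0 ?_, hvf u (Subgroup.mem_zpowers u), ?_⟩
  · rintro c rfl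
    exact hwS (Submodule.mem_span_singleton.2 ⟨c, rfl⟩)
  · obtain ⟨c, hc⟩ := Submodule.mem_span_singleton.1 (hwf u (Subgroup.mem_zpowers u))
    exact ⟨c, by rw [hc]; abel⟩

end Line

end Cfsg.Agent.H885.Pw.JB
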