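import Cfsg.Agent.H885.Pw.JG

/-!
helper885 (S2465, `F4(3)`): every involution is conjugate to `t1` or to the involution of type `C3 A1`.
-/

set_option autoImplicit false
set_option linter.unusedSectionVars false

namespace Cfsg.Agent.H885.Pw.JB

open Cfsg.Lie Cfsg.Agent.ChevalleyStructure Cfsg.Agent.ChevalleyStructure.CoxeterGeomTypes
  Cfsg.Agent.Nodes.RGDChev Cfsg.Agent.KFacts.RgdChevCoord Cfsg.Agent.OddHalf.NI.ModelChev
  Cfsg.Agent.H557.SubTab Cfsg.Agent.H557.SubLink Cfsg.Agent.H557.SignTorus Cfsg.Agent.H557.InvClass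
  Cfsg.Agent.H557.ToralTypes Cfsg.Agent.H557.LinkF4 Cfsg.Agent.H557.OrbF4 Cfsg.Agent.H557.InvF4

universe u

/-- every involution is conjugate to `t1` or `t2` -/
theorem two_cls {K : Type u} [Field K] [Finite K] (ho : Odd (Nat.card K)) {u : ↥(chevF4.group K)} (hu : orderOf u = 2) :
    IsConj u (t1 K) ∨ IsConj u (th Cfsg.Agent.Nodes.KindF.isType (Cfsg.Agent.H557.SignTorus.sg K 4 n_TabC3A1)) := by
  have : Fintype K := Fintype.ofFinite K
  rw [Nat.card_eq_fintype_card] at ho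
  obtain ⟨p, hpp, hpc, hp2⟩ := exists_char K ho
  have : Fact p.Prime := ⟨hpp⟩
  have hW : Finite (CoxeterMatrix.F₄).Group := Nat.finite_of_card_ne_zero (by rw [cardW]; norm_num)
  have hu1 : u * u = 1 := by rw [← pow_two, ← hu, pow_orderOf_eq_one]
  have hu2 : u ≠ 1 := by
    rintro rfl
    rw [orderOf_one] at hu
    omega
  obtain ⟨g, hg⟩ := toral_F4 ho hu1
  obtain ⟨b, hb⟩ := surj_F4 hg
  have hconj : IsConj u (th Cfsg.Agent.Nodes.KindF.isType b) := isConj_iff.2 ⟨g, hb.symm⟩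
  have hb2 : b * b = 1 := by
    apply inj_F4
    rw [map_mul, hb]
    have : g * u * g⁻¹ * (g * u * g⁻¹) = g * (u * u) * g⁻¹ := by group
    rw [this, hu1, mul_one, mul_inv_cancel]
  obtain ⟨m, hm', rfl⟩ := exists_sg hb2
  rcases cover m hm' with h3 | h3 | h3
  · exfalso
    subst h3
    rw [sg_zero, map_one] at hb
    apply hu2
    have h4 : u = g⁻¹ * (g * u * g⁻¹) * g := by group
    rw [h4, ← hb, mul_one, inv_mul_cancel]
  · exact Or.inl (hconj.trans (D_TabB4.conj Cfsg.Agent.H557.OrbF4.hcm p h3))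
  · exact Or.inr (hconj.trans (D_TabC3A1.conj Cfsg.Agent.H557.OrbF4.hcm p h3))

end Cfsg.Agent.H885.Pw.JB
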